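import Groth.Agent.Etrest.FinPt
import Groth.Agent.Etrest.FinGen
import Groth.Agent.Ega3B.ProjProper
import Mathlib.AlgebraicGeometry.ZariskisMainTheorem

/-!
# Modifications of integral schemes mapping to the projective line

* `tr_pt_ne_zero`: the point of `P^1_S` given by a transcendental element of a residue field;
* `exists_modification`: for `w : W ⟶ S` with `W` integral and `κ(η_W)` not algebraic over `κ(w η_W)` there are
  `p : W₁ ⟶ W` proper with `W₁` integral, an isomorphism over a nonempty open of `W`, and an `S`-morphism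
  `h : W₁ ⟶ P^1_S` such that `h η` is transcendental over `S`;
* `isFinite_of_finite`: proper morphisms to the spectrum of a field with finite source are finite;
* `tr_fib`, `tr_fib_base`: fibres over finite `k`-schemes.
-/

set_option autoImplicit false
universe u
open CategoryTheory CategoryTheory.Limits AlgebraicGeometry

namespace Groth.Agent.Sga4h.H923.DevGeo

open P1 Groth.Agent.Etrest.FinTrAlg Groth.Agent.Etrest.FinTr Groth.Agent.CycB.P1Chart
  Groth.Agent.CycB.GraphFac Groth.Agent.Etrest.FinPt

variable {X S : Scheme.{u}}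

theorem tr_pt_ne_zero (f : X ⟶ S) (x : X) (t : X.residueField x)
    (ht : ¬ (f.residueFieldMap x).hom.IsIntegralElem t) :
    tr (CohB1.ProjSpaceOver.toBase 1 S)
      (pt 0 (X.fromSpecResidueField x ≫ f) t (IsLocalRing.closedPoint (X.residueField x))) ≠ 0 := by
  let P := CohB1.ProjSpaceOver 1 S
  let π : P ⟶ S := CohB1.ProjSpaceOver.toBase 1 S
  let a : Spec (X.residueField x) ⟶ P := pt 0 (X.fromSpecResidueField x ≫ f) t
  have ha : a ≫ π = X.fromSpecResidueField x ≫ f := pt_toBase _ _ _
  let p₀ : Spec (X.residueField x) := IsLocalRing.closedPoint (X.residueField x)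
  change tr π (a p₀) ≠ 0
  intro h5
  unfold tr at h5
  rw [trR_eq_zero_iff] at h5
  -- factorization through the residue field
  obtain ⟨φ, hφ⟩ : ∃ φ : P.residueField (a p₀) ⟶ X.residueField x,
      Spec.map φ ≫ P.fromSpecResidueField (a p₀) = a :=
    ⟨_, Scheme.descResidueField_stalkClosedPointTo_fromSpecResidueField (X.residueField x) P a⟩
  -- the coordinate
  obtain ⟨b, hb⟩ := exists_pt (B := P.residueField (a p₀)) 0 (P.fromSpecResidueField (a p₀)) (by
    have h6 : P.fromSpecResidueField (a p₀) (IsLocalRing.closedPoint (P.residueField (a p₀))) = a p₀ :=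
      Scheme.fromSpecResidueField_apply _ _
    exact (congrArg (fun y => toZ S y ∈ Set.range (chartι.{u} 0)) h6).mpr
      (pt_mem_chart 0 (X.fromSpecResidueField x ≫ f) t p₀))
  have hbt : φ.hom b = t := by
    have h7 : pt 0 (Spec.map φ ≫ (P.fromSpecResidueField (a p₀) ≫ π)) (φ.hom b) =
        pt 0 (X.fromSpecResidueField x ≫ f) t := by
      rw [← map_pt]
      exact (congrArg (fun y => Spec.map φ ≫ y) hb.symm).trans hφ
    exact pt_injective h7
  apply ht
  -- the two maps from the residue field of the base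
  have e : f x = π (a p₀) := by
    have h8 : (a ≫ π) p₀ = f x := by
      rw [ha, Scheme.Hom.comp_apply]
      exact congrArg f (Scheme.fromSpecResidueField_apply _ _)
    rw [← h8, Scheme.Hom.comp_apply]
  have h9 : π.residueFieldMap (a p₀) ≫ φ = (S.residueFieldCongr e.symm).hom ≫ f.residueFieldMap x := by
    apply residue_congr
    rw [Spec.map_comp, Category.assoc, Scheme.Hom.SpecMap_residueFieldMap_fromSpecResidueField,
      Scheme.Hom.SpecMap_residueFieldMap_fromSpecResidueField, ← Category.assoc, hφ, ha]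
  obtain ⟨g, hg, hg'⟩ := h5 b
  refine ⟨g.map (S.residueFieldCongr e.symm).hom.hom, hg.map _, ?_⟩
  rw [Polynomial.eval₂_map]
  have h10 : (f.residueFieldMap x).hom.comp (S.residueFieldCongr e.symm).hom.hom =
      φ.hom.comp (π.residueFieldMap (a p₀)).hom := by
    have := congrArg CommRingCat.Hom.hom h9
    exact this.symm
  rw [h10, ← hbt, ← Polynomial.hom_eval₂, hg', map_zero]

/-- The morphism `V ⟶ P^1_S` given by a function. -/
noncomputable def funMap (f : X ⟶ S) (V : X.Opens) (s : Γ(X, V)) :
    (V : Scheme.{u}) ⟶ CohB1.ProjSpaceOver 1 S :=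
  lift (V.toSpecΓ ≫ Spec.map (CommRingCat.ofHom (chartMap 0 Γ(X, V) s)) ≫ chartι 0) (V.ι ≫ f)

theorem funMap_toBase (f : X ⟶ S) (V : X.Opens) (s : Γ(X, V)) :
    funMap f V s ≫ CohB1.ProjSpaceOver.toBase 1 S = V.ι ≫ f := lift_toBase _ _

/-- The residue field point of an open. -/
noncomputable def resPt (x : X) (V : X.Opens) (hx : x ∈ V) : Spec (X.residueField x) ⟶ V :=
  Spec.map (X.residue x) ≫ V.fromSpecStalkOfMem x hx

theorem resPt_ι (x : X) (V : X.Opens) (hx : x ∈ V) :
    resPt x V hx ≫ V.ι = X.fromSpecResidueField x := by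
  unfold resPt
  rw [Category.assoc, Scheme.Opens.fromSpecStalkOfMem_ι]
  rfl

theorem resPt_funMap (f : X ⟶ S) (x : X) (V : X.Opens) (hx : x ∈ V) (s : Γ(X, V)) :
    resPt x V hx ≫ funMap f V s = pt 0 (X.fromSpecResidueField x ≫ f)
      ((X.presheaf.germ V x hx ≫ X.residue x).hom s) := by
  apply CycB.P1Chart.hom_ext
  · rw [pt_toZ, Category.assoc]
    unfold funMap
    rw [lift_toZ]
    have h1 : resPt x V hx ≫ V.toSpecΓ = Spec.map (X.presheaf.germ V x hx ≫ X.residue x) := by
      unfold resPt
      rw [Category.assoc, Scheme.Opens.fromSpecStalkOfMem_toSpecΓ, Spec.map_comp]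
    rw [← Category.assoc, h1, ← Category.assoc, ← Spec.map_comp]
    congr 2
    ext1
    exact comp_chartMap 0 _ _
  · rw [pt_toBase, Category.assoc, funMap_toBase, ← Category.assoc, resPt_ι]

/-- A morphism from an integral scheme factors through a closed immersion as soon as its generic point does. -/
theorem exists_lift {V W T : Scheme.{u}} (i : W ⟶ T) [IsClosedImmersion i] (γ : V ⟶ T) [IsIntegral V]
    (h : γ (genericPoint V) ∈ Set.range i) : ∃ σ : V ⟶ W, σ ≫ i = γ := by
  obtain ⟨w, hw⟩ := h
  have hsurj : Surjective (pullback.snd i γ) := by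
    constructor
    rw [← Set.range_eq_univ, Set.eq_univ_iff_forall]
    intro y
    have hcl : IsClosed (Set.range (pullback.snd i γ)) :=
      (pullback.snd i γ).isClosedEmbedding.isClosed_range
    obtain ⟨p, -, hp⟩ := Scheme.Pullback.exists_preimage_pullback w (genericPoint V) hw
    exact (genericPoint_specializes y).mem_closed hcl ⟨p, hp⟩
  have hiso : IsIso (pullback.snd i γ) := isIso_of_isClosedImmersion_of_surjective _
  refine ⟨inv (pullback.snd i γ) ≫ pullback.fst i γ, ?_⟩
  rw [Category.assoc, pullback.condition, IsIso.inv_hom_id_assoc]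

/-- **Modification to a family over the projective line.** -/
theorem exists_modification {W : Scheme.{u}} [IsIntegral W] (w : W ⟶ S)
    (hne : tr w (genericPoint W) ≠ 0) :
    ∃ (W₁ : Scheme.{u}) (p : W₁ ⟶ W) (h : W₁ ⟶ CohB1.ProjSpaceOver 1 S) (V : W.Opens)
      (_ : IsIntegral W₁), IsProper p ∧ (V : Set W).Nonempty ∧ IsIso (p ∣_ V) ∧
        h ≫ CohB1.ProjSpaceOver.toBase 1 S = p ≫ w ∧ p (genericPoint W₁) = genericPoint W ∧
        tr p (genericPoint W₁) = 0 ∧
        tr (CohB1.ProjSpaceOver.toBase 1 S) (h (genericPoint W₁)) ≠ 0 := by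
  let η := genericPoint W
  let π := CohB1.ProjSpaceOver.toBase 1 S
  have hπ : IsProper π := Ega3B.ProjProper.isProper_toBase 1 S
  obtain ⟨t, ht⟩ : ∃ t : W.residueField η, ¬ (w.residueFieldMap η).hom.IsIntegralElem t := by
    unfold tr at hne
    rw [Ne, trR_eq_zero_iff] at hne
    by_contra hc
    push Not at hc
    exact hne hc
  obtain ⟨t', rfl⟩ := W.residue_surjective η t
  obtain ⟨V, hηV, s, rfl⟩ : ∃ (V : W.Opens) (h : η ∈ V) (s : Γ(W, V)),
    W.presheaf.germ V η h s = t' := W.presheaf.exists_germ_eq t'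
  have hVne : Nonempty V := ⟨⟨η, hηV⟩⟩
  have hVint : IsIntegral V := inferInstance
  have hηV' : genericPoint V = ⟨η, hηV⟩ := by
    apply V.ι.isOpenEmbedding.injective
    exact genericPoint_eq_of_isOpenImmersion V.ι
  let h₀ := funMap w V s
  let γ : (V : Scheme.{u}) ⟶ pullback w π := pullback.lift V.ι h₀ (funMap_toBase w V s).symm
  have hγ1 : γ ≫ pullback.fst w π = V.ι := pullback.lift_fst _ _ _
  have hγ2 : γ ≫ pullback.snd w π = h₀ := pullback.lift_snd _ _ _
  let z := γ (genericPoint V)
  obtain ⟨W₁, i, hi, hW₁, hr⟩ := Etrest.FinGen.exists_integral (closure {z}) isClosed_closure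
    isIrreducible_singleton.closure
  have hiz : i (genericPoint W₁) = z := by
    have h1 : z ⤳ i (genericPoint W₁) := by
      rw [specializes_iff_mem_closure, ← hr]
      exact ⟨_, rfl⟩
    have h2 : i (genericPoint W₁) ⤳ z := by
      have h3 : z ∈ Set.range i := by rw [hr]; exact subset_closure rfl
      obtain ⟨w, hw⟩ := h3
      rw [← hw]
      exact (genericPoint_specializes w).map i.continuous
    exact (h2.antisymm h1).eq
  obtain ⟨σ, hσ⟩ := exists_lift i γ (by rw [hr]; exact subset_closure rfl)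
  let p : W₁ ⟶ W := i ≫ pullback.fst w π
  let h : W₁ ⟶ CohB1.ProjSpaceOver 1 S := i ≫ pullback.snd w π
  have hσp : σ ≫ p = V.ι := by
    change σ ≫ i ≫ _ = _
    rw [← Category.assoc, hσ, hγ1]
  have hσh : σ ≫ h = h₀ := by
    change σ ≫ i ≫ _ = _
    rw [← Category.assoc, hσ, hγ2]
  have hση : σ (genericPoint V) = genericPoint W₁ := by
    apply i.isClosedEmbedding.injective
    rw [hiz, ← Scheme.Hom.comp_apply, hσ]
  have hpη : p (genericPoint W₁) = η := by
    rw [← hση, ← Scheme.Hom.comp_apply, hσp, hηV']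
    rfl
  refine ⟨W₁, p, h, V, hW₁, inferInstance, ⟨η, hηV⟩, ?_, ?_, hpη, ?_, ?_⟩
  · -- isomorphism over `V`
    have hrange : Set.range σ ⊆ Set.range (p ⁻¹ᵁ V).ι := by
      rintro _ ⟨y, rfl⟩
      rw [Scheme.Opens.range_ι]
      change p (σ y) ∈ V
      rw [← Scheme.Hom.comp_apply, hσp]
      exact y.2
    let τ : (V : Scheme.{u}) ⟶ (p ⁻¹ᵁ V : W₁.Opens) := IsOpenImmersion.lift (p ⁻¹ᵁ V).ι σ hrange
    have hτ : τ ≫ (p ⁻¹ᵁ V).ι = σ := IsOpenImmersion.lift_fac _ _ _
    have hτp : τ ≫ (p ∣_ V) = 𝟙 _ := by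
      rw [← cancel_mono V.ι, Category.assoc, morphismRestrict_ι, ← Category.assoc, hτ, hσp,
        Category.id_comp]
    have hcl : IsClosedImmersion (τ ≫ (p ∣_ V)) := by rw [hτp]; infer_instance
    have hcl' : IsClosedImmersion τ := IsClosedImmersion.of_comp τ (p ∣_ V)
    have hmem : genericPoint W₁ ∈ p ⁻¹ᵁ V := by
      change p (genericPoint W₁) ∈ V
      rw [hpη]; exact hηV
    have hne' : Nonempty (p ⁻¹ᵁ V : W₁.Opens) := ⟨⟨_, hmem⟩⟩
    have hint : IsIntegral (p ⁻¹ᵁ V : W₁.Opens) := inferInstance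
    have hgen : τ (genericPoint V) = genericPoint (p ⁻¹ᵁ V : W₁.Opens) := by
      apply (p ⁻¹ᵁ V).ι.isOpenEmbedding.injective
      rw [← Scheme.Hom.comp_apply, hτ, hση]
      exact (genericPoint_eq_of_isOpenImmersion (p ⁻¹ᵁ V).ι).symm
    have hsurj : Surjective τ := by
      constructor
      rw [← Set.range_eq_univ, Set.eq_univ_iff_forall]
      intro y
      exact (genericPoint_specializes y).mem_closed τ.isClosedEmbedding.isClosed_range ⟨_, hgen⟩
    have hτiso : IsIso τ := isIso_of_isClosedImmersion_of_surjective _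
    have : p ∣_ V = inv τ := by rw [← cancel_epi τ, hτp, IsIso.hom_inv_id]
    rw [this]
    infer_instance
  · change (i ≫ _) ≫ _ = (i ≫ _) ≫ _
    rw [Category.assoc, Category.assoc, pullback.condition]
  · have h1 := tr_le_comp σ p (genericPoint V)
    rw [hσp, hση, tr_eq_zero V.ι] at h1
    exact le_antisymm h1 zero_le
  · have h1 : h (genericPoint W₁) =
        pt 0 (W.fromSpecResidueField η ≫ w) ((W.presheaf.germ V η hηV ≫ W.residue η).hom s)
          (IsLocalRing.closedPoint (W.residueField η)) := by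
      rw [← resPt_funMap, ← hση, ← Scheme.Hom.comp_apply, hσh, Scheme.Hom.comp_apply]
      congr 1
      rw [hηV']
      apply V.ι.isOpenEmbedding.injective
      rw [← Scheme.Hom.comp_apply, resPt_ι, Scheme.fromSpecResidueField_apply]
      rfl
    rw [h1]
    exact tr_pt_ne_zero w η _ ht

/-! ### Quasi-finite morphisms, fibres over points with values in finite fields -/

theorem residueFieldMap_finite {X Y : Scheme.{u}} (f : X ⟶ Y) [LocallyQuasiFinite f] (x : X) :
    (f.residueFieldMap x).hom.Finite := by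
  have h1 : (f.stalkMap x).hom.QuasiFinite := f.quasiFiniteAt x
  have h2 : (X.residue x).hom.QuasiFinite :=
    RingHom.QuasiFinite.of_finite (RingHom.Finite.of_surjective _ (X.residue_surjective _))
  have h3 := h2.comp h1
  rw [← CommRingCat.hom_comp, ← Scheme.residue_residueFieldMap, CommRingCat.hom_comp] at h3
  have h4 : (f.residueFieldMap x).hom.QuasiFinite := RingHom.QuasiFinite.of_comp h3
  let i : Algebra (Y.residueField (f x)) (X.residueField x) := (f.residueFieldMap x).hom.toAlgebra
  have : Algebra.QuasiFinite (Y.residueField (f x)) (X.residueField x) := h4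
  exact (Module.Finite.of_quasiFinite :
    Module.Finite (Y.residueField (f x)) (X.residueField x))

theorem tr_eq_zero_of_lqf {X Y : Scheme.{u}} (f : X ⟶ Y) [LocallyQuasiFinite f] (x : X) :
    tr f x = 0 := by
  unfold tr
  rw [trR_eq_zero_iff]
  exact (residueFieldMap_finite f x).to_isIntegral

section Fib

variable {k : Type u} [Field k] {P S Z : Scheme.{u}} (f : P ⟶ S)
  (c : S ⟶ Spec (CommRingCat.of k)) [IsSeparated c] (z : Z ⟶ S) [IsFinite (z ≫ c)]
  (y : ↥(pullback f z))

/-- The transcendence degree over the base is unchanged in the fibre. -/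
theorem tr_fib : tr (pullback.snd f z ≫ z ≫ c) y = tr (f ≫ c) (pullback.fst f z y) := by
  have hs : IsFinite z := IsFinite.of_comp z c
  have h2 : tr (pullback.fst f z ≫ f ≫ c) y = tr (f ≫ c) (pullback.fst f z y) := by
    rw [tr_comp, tr_eq_zero_of_lqf (pullback.fst f z), add_zero]
  rw [← h2, ← Category.assoc, ← Category.assoc, pullback.condition]

omit [IsSeparated c] in
theorem tr_fib_base : tr c (f (pullback.fst f z y)) = 0 := by
  have h1 := tr_le_comp z c (pullback.snd f z y)
  rw [tr_eq_zero_of_lqf (z ≫ c), ← Scheme.Hom.comp_apply, ← pullback.condition,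
    Scheme.Hom.comp_apply] at h1
  exact le_antisymm h1 zero_le

end Fib

section Integral

variable {k : Type u} [Field k] {W : Scheme.{u}} [IsIntegral W] (w : W ⟶ Spec (CommRingCat.of k))

theorem tr_add_one_le_generic (x : W) (hx : x ≠ genericPoint W) :
    tr w x + 1 ≤ tr w (genericPoint W) :=
  tr_add_one_le w (genericPoint_specializes x) (fun e => hx e.symm) (Subsingleton.elim _ _)

theorem tr_le_generic (x : W) : tr w x ≤ tr w (genericPoint W) := by
  by_cases hx : x = genericPoint W
  · rw [hx]
  · exact le_trans le_self_add (tr_add_one_le_generic w x hx)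

end Integral

/-- A proper morphism with finite source to the spectrum of a field is finite. -/
theorem isFinite_of_finite {k : Type u} [Field k] {Z : Scheme.{u}} (b : Z ⟶ Spec (CommRingCat.of k))
    [IsProper b] (h : (Set.univ : Set Z).Finite) : IsFinite b := by
  obtain ⟨V, hV, hfin⟩ := exists_isFinite_morphismRestrict_of_finite_preimage_singleton b
    (IsLocalRing.closedPoint k) (h.subset (Set.subset_univ _))
  have hVtop : V = ⊤ := by
    ext y
    exact ⟨fun _ => trivial, fun _ => (Subsingleton.elim (IsLocalRing.closedPoint k) y) ▸ hV⟩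
  subst hVtop
  have hι : ∀ X : Scheme.{u}, IsIso (⊤ : X.Opens).ι := fun X => inferInstanceAs (IsIso X.topIso.hom)
  have h0 := hι (Spec (CommRingCat.of k))
  have h0' : IsIso (b ⁻¹ᵁ ⊤).ι := hι Z
  have h2 : IsFinite ((b ⁻¹ᵁ ⊤).ι ≫ b) := by
    rw [← (isPullback_morphismRestrict b ⊤).w]
    infer_instance
  exact (MorphismProperty.cancel_left_of_respectsIso @IsFinite (b ⁻¹ᵁ ⊤).ι b).1 h2

end Groth.Agent.Sga4h.H923.DevGeo
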