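import Groth.Agent.Sga4h.H923.DevBasic
import Groth.Agent.Sga4h.H923.DevGeo
import Groth.Agent.EtpbcB.FinLow
import Groth.Agent.Sga4B.P1Curve441
import Groth.Agent.S0184

/-!
# The devissage theorem

`main`: a devissage-stable property `G` (`IsDev G`) of sheaves of `Λ`-modules holds for all constructible
sheaves on all proper schemes over the field `k`.

Induction on the dimension `d` and Noetherian induction: an integral `W` of dimension `d + 1` has a modification
`p : W₁ ⟶ W` with a dominant morphism `h : W₁ ⟶ P^1_k`; the fibres of `p` and `h` over finite `k`-schemes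
have dimension `≤ d`.
-/

set_option autoImplicit false
universe u
open CategoryTheory CategoryTheory.Limits AlgebraicGeometry Opposite

namespace Groth.Agent.Sga4h.H923.Devissage

open Groth.Agent.Sga4h.H923.DevDef Groth.Agent.Sga4h.H923.DevBasic Groth.Agent.Sga4h.H923.DevGeo
  Groth.Agent.Etrest Groth.Agent.Etrest.FinCons Groth.Agent.Etrest.FinTr Groth.Agent.EtpbcA

variable {Λ : Type} [CommRing Λ]

/-- The closed complement of an open immersion. -/
theorem exists_complement {U P : Scheme.{u}} (j : U ⟶ P) [IsOpenImmersion j] :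
    ∃ (Z : Scheme.{u}) (i : Z ⟶ P), IsClosedImmersion i ∧ IsCompl (Set.range i) (Set.range j) := by
  let T : TopologicalSpace.Closeds P := ⟨(Set.range j)ᶜ, j.isOpenEmbedding.isOpen_range.isClosed_compl⟩
  let I := Scheme.IdealSheafData.vanishingIdeal T
  have hI : Set.range I.subschemeι = (Set.range j)ᶜ := by
    rw [Scheme.IdealSheafData.range_subschemeι, Scheme.IdealSheafData.coe_support_vanishingIdeal]
    rfl
  refine ⟨I.subscheme, I.subschemeι, inferInstance, ?_⟩
  rw [hI]
  exact isCompl_compl.symm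

/-- `j'_! j'^* j_! F = 0` for disjoint opens. -/
theorem isZero_extZero_restr {U U' P : Scheme.{u}} (j : U ⟶ P) [IsOpenImmersion j] (j' : U' ⟶ P)
    [IsOpenImmersion j'] (hd : Disjoint (Set.range j) (Set.range j')) (F : EtLam.Sheaf Λ U) :
    IsZero (FinFr.extZeroLam j' (restr j' (FinFr.extZeroLam j F))).carrier := by
  rw [Etcore.Stalks.isZero_iff_stalks]
  intro Ω _ _ ξ
  by_cases h : ξ default ∈ Set.range j'
  · have h1 := Etcore.ShriekUnique.isIso_stalk_counit j' ξ h ((EtShriek.extZero j).obj F.carrier)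
    have h2 : IsZero ((EtCoh.stalk ξ).obj ((EtShriek.extZero j).obj F.carrier)) :=
      Etcore.ShriekUnique.isZero_stalk_extZero' j ξ (Set.disjoint_right.1 hd h) _
    exact h2.of_iso (@asIso _ _ _ _ _ h1)
  · exact Etcore.ShriekUnique.isZero_stalk_extZero' j' ξ h _

/-- `i^* j_! F = 0` for `i` with image disjoint from that of `j`. -/
theorem isZero_pull_extZero {U Z P : Scheme.{u}} (j : U ⟶ P) [IsOpenImmersion j] (i : Z ⟶ P)
    (hd : Disjoint (Set.range i) (Set.range j)) (F : EtLam.Sheaf Λ U) :
    IsZero ((EtCoh.pull i).obj (FinFr.extZeroLam j F).carrier) := by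
  rw [Etcore.Stalks.isZero_iff_stalks]
  intro Ω _ _ ξ
  refine IsZero.of_iso ?_ ((Groth.Agent.Etbase.StalkPull.stalkPullIso i ξ).app _).symm
  refine Etcore.ShriekUnique.isZero_stalk_extZero' j (ξ ≫ i) ?_ _
  rw [Scheme.Hom.comp_apply]
  exact Set.disjoint_left.1 hd ⟨_, rfl⟩

variable {k : Type u} [Field k] {G : Pred.{u} Λ k} (hG : IsDev G)

include hG

/-- Noetherian induction: reduction to integral closed subschemes. -/
theorem noeth {P : Scheme.{u}} (b : P ⟶ Spec (CommRingCat.of k))
    [IsProper b]
    (H : ∀ {W : Scheme.{u}} (i : W ⟶ P) [IsClosedImmersion i] [IsIntegral W],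
      (∀ {Z : Scheme.{u}} (z : Z ⟶ W) [IsClosedImmersion z], Set.range z ≠ Set.univ →
        ∀ M : EtLam.Sheaf Λ Z, EtPBC.IsConstructible M.carrier → G (z ≫ i ≫ b) M) →
      ∀ M : EtLam.Sheaf Λ W, EtPBC.IsConstructible M.carrier → G (i ≫ b) M)
    (L : EtLam.Sheaf Λ P) (hL : EtPBC.IsConstructible L.carrier) : G b L := by
  have hNP : IsNoetherian P := FinRed.isNoetherian_of_proper b
  have key : ∀ (C : TopologicalSpace.Closeds P) {Y : Scheme.{u}} (i : Y ⟶ P) [IsClosedImmersion i],
      Set.range i = C → ∀ M : EtLam.Sheaf Λ Y, EtPBC.IsConstructible M.carrier → G (i ≫ b) M := by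
    intro C
    induction C using WellFoundedLT.induction with
    | ind C ih =>
    intro Y i _ hC M hM
    have hNY : IsNoetherian Y := FinRed.isNoetherian_of_proper (i ≫ b)
    by_cases hY : IsEmpty Y
    · exact hG.zero (i ≫ b) M (FinRed.isZero_of_empty _)
    rw [not_isEmpty_iff] at hY
    -- a nonempty open subset of an irreducible component
    obtain ⟨T, hT⟩ : (irreducibleComponents Y).Nonempty :=
      ⟨_, irreducibleComponent_mem_irreducibleComponents hY.some⟩
    obtain ⟨V, hV, hVne, hVT⟩ :=
      TopologicalSpace.NoetherianSpace.exists_isOpen_nonempty_subset_irreducibleComponent T hT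
    obtain ⟨W, t, ht, hW, hr⟩ := FinGen.exists_integral T (isClosed_of_mem_irreducibleComponents T hT)
      hT.1
    let V' : Y.Opens := ⟨V, hV⟩
    let j := V'.ι
    have hj : Set.range j = V := Scheme.Opens.range_ι V'
    obtain ⟨Z, z, hz, hzj⟩ := exists_complement j
    have hlt : ∀ {X : Scheme.{u}} (a : X ⟶ Y), Set.range a ≠ Set.univ → IsClosedImmersion a →
        ∀ N : EtLam.Sheaf Λ X, EtPBC.IsConstructible N.carrier → G (a ≫ i ≫ b) N := by
      intro X a ha ha' N hN
      have h1 : IsClosedImmersion (a ≫ i) := inferInstance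
      have h2 := ih ⟨Set.range (a ≫ i), (a ≫ i).isClosedEmbedding.isClosed_range⟩ (by
        rw [lt_iff_le_and_ne]
        constructor
        · intro x hx
          obtain ⟨y, rfl⟩ := hx
          change (a ≫ i) y ∈ (C : Set P)
          rw [← hC, Scheme.Hom.comp_apply]
          exact ⟨_, rfl⟩
        · intro e
          apply ha
          rw [Set.eq_univ_iff_forall]
          intro y
          have h3 : i y ∈ (C : Set P) := by rw [← hC]; exact ⟨y, rfl⟩
          rw [← e] at h3
          obtain ⟨x, hx⟩ := h3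
          exact ⟨x, i.isClosedEmbedding.injective (by rw [← hx, Scheme.Hom.comp_apply])⟩)
        (a ≫ i) rfl N hN
      rwa [Category.assoc] at h2
    refine of_open_closed hG z j hzj (i ≫ b) M hM ?_ (hlt z ?_ hz _ (cons_pull z hM))
    · -- the part `j_! j^* M`, supported on `W`
      obtain ⟨U', hU'⟩ : ∃ U' : Y.Opens, (U' : Set Y) = (Set.range t)ᶜ :=
        ⟨⟨_, t.isClosedEmbedding.isClosed_range.isOpen_compl⟩, rfl⟩
      have hj' : Set.range U'.ι = (Set.range t)ᶜ := by rw [Scheme.Opens.range_ι, hU']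
      have hc := cons_extZero_restr (Λ := Λ) j hM
      refine of_open_closed hG t U'.ι (by rw [hj']; exact isCompl_compl) (i ≫ b) _ hc ?_ ?_
      · refine hG.zero (i ≫ b) _ (isZero_extZero_restr j U'.ι ?_ _)
        rw [hj, hj', hr, Set.disjoint_compl_right_iff_subset]
        exact hVT
      · have h1 := H (t ≫ i) (fun {X} x hx hxne N hN => by
          have h2 := hlt (x ≫ t) (fun e => hxne (by
            rw [Set.eq_univ_iff_forall]
            intro y
            have h3 : t y ∈ Set.range (x ≫ t) := by rw [e]; trivial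
            obtain ⟨x', hx'⟩ := h3
            exact ⟨x', t.isClosedEmbedding.injective (by rw [← hx', Scheme.Hom.comp_apply])⟩))
            inferInstance N hN
          rw [Category.assoc] at h2 ⊢
          exact h2) (EtLam.pullback t (FinFr.extZeroLam j (restr j M))) (cons_pull t hc)
        rwa [Category.assoc] at h1
    · intro e
      obtain ⟨v, hv⟩ := hVne
      have h1 : v ∈ Set.range z := by rw [e]; trivial
      have h2 : v ∈ Set.range j := by rw [hj]; exact hv
      exact Set.disjoint_left.1 hzj.disjoint h1 h2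
  have h := key ⊤ (𝟙 P) (by
    rw [TopologicalSpace.Closeds.coe_top, Set.range_eq_univ]
    exact fun x => ⟨x, rfl⟩) L hL
  rwa [Category.id_comp] at h

/-- The property in dimension `≤ d`. -/
def DimLE (G : Pred.{u} Λ k) (d : ℕ) : Prop :=
  ∀ {P : Scheme.{u}} (b : P ⟶ Spec (CommRingCat.of k)) [IsProper b]
    (L : EtLam.Sheaf Λ P), (∀ x : P, tr b x ≤ d) → EtPBC.IsConstructible L.carrier → G b L

theorem dimLE_zero : DimLE G 0 := by
  intro P b _ L hd hL
  refine noeth hG b (fun {W} i _ _ _ M hM => ?_) L hL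
  have hall : ∀ x : W, x = genericPoint W := by
    intro x
    by_contra hne
    have h1 := tr_add_one_le_generic (i ≫ b) x hne
    rw [tr_comp_of_surjectiveOnStalks i b (genericPoint W)] at h1
    have h2 := h1.trans (hd (i (genericPoint W)))
    rw [Nat.cast_zero] at h2
    exact absurd (le_trans le_add_self h2) (by simp)
  have hfin : (Set.univ : Set W).Finite := (Set.finite_singleton (genericPoint W)).subset
    (fun x _ => hall x)
  have : IsFinite (i ≫ b) := isFinite_of_finite (i ≫ b) hfin
  exact hG.fin (i ≫ b) M hM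

/-- Constructible sheaves on the projective line. -/
theorem projLine (M : EtLam.Sheaf Λ (CohB1.ProjSpaceOver 1 (Spec (CommRingCat.of k))))
    (hM : EtPBC.IsConstructible M.carrier) :
    G (CohB1.ProjSpaceOver.toBase 1 (Spec (CommRingCat.of k))) M := by
  let c := CohB1.ProjSpaceOver.toBase 1 (Spec (CommRingCat.of k))
  have hc : IsProper c := Ega3B.ProjProper.isProper_toBase 1 _
  have hint : IsIntegral (CohB1.ProjSpaceOver 1 (Spec (CommRingCat.of k))) := inferInstance
  obtain ⟨U₀, hη₀, hU₀⟩ := EtpbcB.FinLow.exists_flc_open M.carrier hM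
  obtain ⟨U, hU, hη, hle⟩ := exists_isAffineOpen_mem_and_subset
    (x := genericPoint (CohB1.ProjSpaceOver 1 (Spec (CommRingCat.of k)))) (U := U₀) hη₀
  have hle' : U ≤ U₀ := hle
  have hflc : EtCoh.IsFiniteLocallyConstant ((EtCoh.pull U.ι).obj M.carrier) := by
    have e : (Scheme.homOfLE _ hle') ≫ U₀.ι = U.ι := Scheme.homOfLE_ι _ hle'
    exact PullFLC.isFLC_of_iso ((PullFLC.pullComp _ _).app M.carrier ≪≫
      (PullFLC.pullCongr e).app M.carrier) (PullFLC.isFLC_pull _ _ hU₀)
  have hAff : IsAffine U := hU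
  have hne : Nonempty U := ⟨⟨_, hη⟩⟩
  obtain ⟨Z, z, hz, hzj⟩ := exists_complement U.ι
  refine of_open_closed hG z U.ι hzj c M hM ?_ ?_
  · refine hG.curve U.ι (restr U.ι M) ?_
    exact PullFLC.isFLC_of_iso ((Etcore.ShriekBasic.pullIsoRestr U.ι).app M.carrier) hflc
  · have hg : genericPoint (CohB1.ProjSpaceOver 1 (Spec (CommRingCat.of k))) ∉ Set.range z := by
      intro h
      refine Set.disjoint_left.1 hzj.disjoint h ?_
      rw [Scheme.Opens.range_ι]
      exact hη
    have hf := EtpbcB.FinLow.finite_fib k z hg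
    have : IsFinite (z ≫ c) := isFinite_of_finite (z ≫ c) (hf.subset (fun x _ => Subsingleton.elim _ _))
    exact hG.fin (z ≫ c) _ (cons_pull z hM)

theorem dimLE_succ (d : ℕ) (h : DimLE G d) : DimLE G (d + 1) := by
  intro P b _ L hd hL
  refine noeth hG b (fun {W} i _ _ hcl M hM => ?_) L hL
  by_cases h0 : tr (i ≫ b) (genericPoint W) ≤ d
  · exact h (i ≫ b) M (fun x => (tr_le_generic (i ≫ b) x).trans h0) hM
  have hη : tr (i ≫ b) (genericPoint W) ≤ (d + 1 : ℕ) := by
    rw [tr_comp_of_surjectiveOnStalks i b]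
    exact hd _
  let w := i ≫ b
  have hne : tr w (genericPoint W) ≠ 0 := fun e => h0 (by
    change tr w (genericPoint W) ≤ d
    rw [e]; exact zero_le)
  obtain ⟨W₁, p, hh, V, hW₁, hp, hVne, hiso, hhc, hpη, htrp, hhη⟩ := exists_modification w hne
  let c := CohB1.ProjSpaceOver.toBase 1 (Spec (CommRingCat.of k))
  have hc : IsProper c := Ega3B.ProjProper.isProper_toBase 1 _
  have hN : IsNoetherian W := FinRed.isNoetherian_of_proper w
  have hpw : IsProper (p ≫ w) := inferInstance
  have hN1 : IsNoetherian W₁ := FinRed.isNoetherian_of_proper (p ≫ w)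
  have hhh : IsProper hh := by
    have : IsProper (hh ≫ c) := by rw [hhc]; infer_instance
    exact IsProper.of_comp hh c
  have htr1 : tr (p ≫ w) (genericPoint W₁) ≤ (d + 1 : ℕ) := by
    rw [tr_comp, htrp, add_zero, hpη]
    exact hη
  -- points other than the generic one
  have hsmall : ∀ x : W₁, x ≠ genericPoint W₁ → tr (p ≫ w) x ≤ d := by
    intro x hx
    have h1 := (tr_add_one_le_generic (p ≫ w) x hx).trans htr1
    have h2 : tr (p ≫ w) x + 1 ≤ (d : Cardinal) + 1 := h1.trans (by exact_mod_cast le_rfl)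
    exact (Cardinal.add_one_le_add_one_iff).1 h2
  obtain ⟨Z, z, hz, hzj⟩ := exists_complement V.ι
  refine of_open_closed hG z V.ι hzj w M hM ?_ (hcl z ?_ _ (cons_pull z hM))
  · have hF := cons_extZero_restr (Λ := Λ) V.ι hM
    refine of_modification hG p z V.ι hzj (p ⁻¹ᵁ V).ι (p ∣_ V) (isPullback_morphismRestrict p V).flip w
      (FinFr.extZeroLam V.ι (restr V.ι M)) hF (isZero_pull_extZero V.ι z hzj.disjoint _) ?_ ?_
    · intro Y s _
      refine h _ _ (fun y => ?_) (cons_pull _ (cons_pull _ hF))
      rw [tr_fib p w s y]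
      refine hsmall _ (fun e => hne ?_)
      have h1 := tr_fib_base p w s y
      rw [e, hpη] at h1
      exact h1
    · have hcomp : p ≫ w = hh ≫ c := hhc.symm
      have hFp := cons_pull p hF
      have hlfp : LocallyOfFinitePresentation hh :=
        have : IsNoetherian (CohB1.ProjSpaceOver 1 (Spec (CommRingCat.of k))) :=
          FinRed.isNoetherian_of_proper c
        LocallyOfFinitePresentation.iff_locallyOfFiniteType.2 inferInstance
      obtain ⟨n, hn, hFn⟩ := KilledBy.exists_killedBy_of_isConstructible hFp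
      have hR : ∀ q, G c (rpush hh q (EtLam.pullback p (FinFr.extZeroLam V.ι (restr V.ι M)))) :=
        fun q => projLine hG _ (Groth.Agent.S0184.result hh n hn _ hFp hFn q)
      refine (hG.leray (p ≫ w) c hh hhc (EtLam.pullback p (FinFr.extZeroLam V.ι (restr V.ι M)))
        hFp (fun {Y} s _ => ?_) (fun q _ => hR q)).2 (hR 0)
      refine h _ _ (fun y => ?_) (cons_pull _ hFp)
      rw [tr_fib hh c s y, hhc]
      refine hsmall _ (fun e => hhη ?_)
      have h1 := tr_fib_base hh c s y
      rwa [e] at h1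
  · intro e
    obtain ⟨v, hv⟩ := hVne
    have h1 : v ∈ Set.range z := by rw [e]; trivial
    refine Set.disjoint_left.1 hzj.disjoint h1 ?_
    rw [Scheme.Opens.range_ι]
    exact hv

theorem dimLE (d : ℕ) : DimLE G d := by
  induction d with
  | zero => exact dimLE_zero hG
  | succ d ih => exact dimLE_succ hG d ih

/-- **The devissage theorem.** -/
theorem main {P : Scheme.{u}} (b : P ⟶ Spec (CommRingCat.of k))
    [IsProper b] (L : EtLam.Sheaf Λ P) (hL : EtPBC.IsConstructible L.carrier) : G b L := by
  refine noeth hG b (fun {W} i _ _ _ M hM => ?_) L hL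
  obtain ⟨n, hn⟩ := Cardinal.lt_aleph0.1 (tr_lt_aleph0 (i ≫ b) (genericPoint W))
  exact dimLE hG n (i ≫ b) M (fun x => (tr_le_generic (i ≫ b) x).trans hn.le) hM

end Groth.Agent.Sga4h.H923.Devissage
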