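import Groth.Prelude.Def_FinFr
import Mathlib.LinearAlgebra.Basis.VectorSpace
import Mathlib.RingTheory.Finiteness.Cardinality

/-!
# Constructible sheaves of Λ-modules, Λ a finite ring, are constructible as abelian sheaves

* `isFLC_of_isFTLC`: `EtLam.IsFTLC L → EtCoh.IsFiniteLocallyConstant L.carrier`;
* `cons_of_lamCons`: `EtLam.IsConstructible L → EtPBC.IsConstructible L.carrier`.
-/

set_option autoImplicit false
universe u
open CategoryTheory CategoryTheory.Limits AlgebraicGeometry Opposite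

namespace Groth.Agent.Sga4h.H923.LamCons

variable {Λ : Type} [CommRing Λ] [Finite Λ] {X : Scheme.{u}}

theorem isFLC_of_isFTLC {L : EtLam.Sheaf Λ X} (h : EtLam.IsFTLC L) :
    EtCoh.IsFiniteLocallyConstant L.carrier := by
  obtain ⟨ι, U, hU, h⟩ := h
  refine ⟨ι, U, hU, fun i => ?_⟩
  obtain ⟨M, _, _, _, e, -⟩ := h i
  exact ⟨M, inferInstance, Module.finite_of_finite Λ, ⟨e⟩⟩

theorem cons_of_lamCons {L : EtLam.Sheaf Λ X} (h : EtLam.IsConstructible L) :
    EtPBC.IsConstructible L.carrier := by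
  intro U hU
  obtain ⟨n, T, g, h1, h2, h3, h4, h5⟩ := h U hU
  exact ⟨n, T, g, h1, h2, h3, h4, fun i _ => isFLC_of_isFTLC (h5 i)⟩

end Groth.Agent.Sga4h.H923.LamCons
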