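import Groth.Agent.Sga4h.H923.LamCons
import Groth.Agent.Etrest.ConsClass
import Mathlib.AlgebraicGeometry.Noetherian
import Mathlib.AlgebraicGeometry.Morphisms.Proper
import Mathlib.RingTheory.Noetherian.Basic

/-!
# Constructibility of the extension by zero of a constructible sheaf of `Λ`-modules
-/

set_option autoImplicit false
universe u
open CategoryTheory CategoryTheory.Limits AlgebraicGeometry Opposite

namespace Groth.Agent.Sga4h.H923.ExtCons

variable {Λ : Type} [CommRing Λ]

/-- `j_! L` is constructible for `j` an open immersion into a Noetherian scheme (abelian version). -/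
theorem cons_extZero_of_noetherian {X P : Scheme.{u}} [IsNoetherian P] (j : X ⟶ P) [IsOpenImmersion j]
    (L : EtLam.Sheaf Λ X) (hL : EtPBC.IsConstructible L.carrier) :
    EtPBC.IsConstructible (FinFr.extZeroLam j L).carrier :=
  Groth.Agent.Etrest.ConsClass.isConstructible_extZero j L.carrier hL

/-- `j_! L` is constructible for `j` an open immersion into a proper scheme over a field. -/
theorem cons_extZero {k : Type u} [Field k] [Finite Λ] {X P : Scheme.{u}} (j : X ⟶ P) [IsOpenImmersion j]
    (b : P ⟶ Spec (CommRingCat.of k)) [IsProper b] (L : EtLam.Sheaf Λ X) (hL : EtLam.IsConstructible L) :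
    EtPBC.IsConstructible (FinFr.extZeroLam j L).carrier := by
  have h1 : IsLocallyNoetherian P := LocallyOfFiniteType.isLocallyNoetherian b
  have h2 : CompactSpace P := QuasiCompact.compactSpace_of_compactSpace b
  have h3 : IsNoetherian P := {}
  exact cons_extZero_of_noetherian j L (Groth.Agent.Sga4h.H923.LamCons.cons_of_lamCons hL)

end Groth.Agent.Sga4h.H923.ExtCons
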