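import Groth.Agent.Etcore.LamFG
import Groth.Agent.Sga4h.LerayAcyc
import Groth.Prelude.Def_FinFr
import Groth.Prelude.Def_CohB1

/-!
# Devissage-stable properties of constructible sheaves of Λ-modules on proper schemes over a field

* `rpush f q L`: the higher direct image `R^q f_* L` of an etale sheaf of `Λ`-modules;
* `Pred Λ k`: properties `G b L` of an etale sheaf of `Λ`-modules `L` on `b : P ⟶ Spec k`;
* `IsDev G`: the hypotheses of the devissage theorem `Groth.Agent.Sga4h.H923.Devissage.main`
  (`G b L` holds for all `b` proper and `L` constructible).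
-/

set_option autoImplicit false
universe u
open CategoryTheory CategoryTheory.Limits AlgebraicGeometry Opposite

namespace Groth.Agent.Sga4h.H923.DevDef

open Groth.Agent.Etcore.LamFG

variable {Λ : Type} [CommRing Λ]

instance additive_Rpush {X Y : Scheme.{u}} (f : X ⟶ Y) (q : ℕ) : (EtCoh.Rpush f q).Additive :=
  Groth.Agent.Sga4h.LerayAcyc.rightDerived_additive (EtCoh.push f) q

/-- The higher direct image `R^q f_* L` with its `Λ`-structure. -/
noncomputable def rpush {X Y : Scheme.{u}} (f : X ⟶ Y) (q : ℕ) (L : EtLam.Sheaf Λ X) :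
    EtLam.Sheaf Λ Y :=
  ⟨(EtCoh.Rpush f q).obj L.carrier, EtLam.mapAct (EtCoh.Rpush f q) L.act⟩

variable (Λ) in
/-- A property of etale sheaves of `Λ`-modules on `k`-schemes. -/
abbrev Pred (k : Type u) [Field k] := ∀ {P : Scheme.{u}}
  (_ : P ⟶ Spec (CommRingCat.of k)), EtLam.Sheaf Λ P → Prop

/-- The hypotheses of the devissage theorem: `G` holds for the zero sheaf, satisfies two out of three in
short exact sequences, is compatible with proper direct images (as soon as it holds for the
fibres over finite `k`-schemes and for the higher direct images), holds in dimension zero and for `j_! L` on the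
projective line, `j` the inclusion of a nonempty affine open subscheme and `L` finite locally constant. -/
structure IsDev {k : Type u} [Field k] (G : Pred.{u} Λ k) : Prop where
  zero : ∀ {P : Scheme.{u}} (b : P ⟶ Spec (CommRingCat.of k)) [IsProper b] (L : EtLam.Sheaf Λ P),
    IsZero L.carrier → G b L
  ses : ∀ {P : Scheme.{u}} (b : P ⟶ Spec (CommRingCat.of k))
    [IsProper b] (L₁ L₂ L₃ : EtLam.Sheaf Λ P) (f : L₁.carrier ⟶ L₂.carrier)
    (g : L₂.carrier ⟶ L₃.carrier) (w : f ≫ g = 0), (ShortComplex.mk f g w).ShortExact →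
    Equi L₁.act L₂.act f → Equi L₂.act L₃.act g → EtPBC.IsConstructible L₁.carrier →
    EtPBC.IsConstructible L₂.carrier → EtPBC.IsConstructible L₃.carrier →
      (G b L₁ → G b L₂ → G b L₃) ∧ (G b L₁ → G b L₃ → G b L₂) ∧ (G b L₂ → G b L₃ → G b L₁)
  leray : ∀ {P S : Scheme.{u}} (b : P ⟶ Spec (CommRingCat.of k))
    (c : S ⟶ Spec (CommRingCat.of k)) [IsProper b] [IsProper c] (f : P ⟶ S) (_ : f ≫ c = b)
    (L : EtLam.Sheaf Λ P), EtPBC.IsConstructible L.carrier →
    (∀ {Z : Scheme.{u}} (z : Z ⟶ S) [IsFinite (z ≫ c)],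
      G (pullback.snd f z ≫ z ≫ c) (EtLam.pullback (pullback.fst f z) L)) →
    (∀ q : ℕ, 0 < q → G c (rpush f q L)) → (G b L ↔ G c (rpush f 0 L))
  fin : ∀ {P : Scheme.{u}} (b : P ⟶ Spec (CommRingCat.of k))
    [IsFinite b] (L : EtLam.Sheaf Λ P), EtPBC.IsConstructible L.carrier → G b L
  curve : ∀ {U : Scheme.{u}}
    (j : U ⟶ CohB1.ProjSpaceOver 1 (Spec (CommRingCat.of k))) [IsOpenImmersion j] [IsAffine U]
    [Nonempty U] (L : EtLam.Sheaf Λ U), EtCoh.IsFiniteLocallyConstant L.carrier →
    G (CohB1.ProjSpaceOver.toBase 1 (Spec (CommRingCat.of k))) (FinFr.extZeroLam j L)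

end Groth.Agent.Sga4h.H923.DevDef
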