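import Groth.Agent.Sga4h.H925.DetInv
import Mathlib.LinearAlgebra.Trace

/-!
# Conjugate endomorphisms

`Conj φ ψ`: there is a linear isomorphism carrying `φ` to `ψ`.  Traces, `charRev` and all additive invariants agree.
-/

set_option autoImplicit false
set_option linter.dupNamespace false
universe v w x

open Polynomial

namespace Groth.Agent.Sga4h.H923.Conj

open Groth.Agent.Sga4h.H925.Inv

section

variable {Λ : Type} [CommRing Λ] {V : Type v} [AddCommGroup V] [Module Λ V] {W : Type w} [AddCommGroup W]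
  [Module Λ W] {U : Type x} [AddCommGroup U] [Module Λ U]

/-- `φ` and `ψ` are conjugate. -/
def Conj (φ : V →ₗ[Λ] V) (ψ : W →ₗ[Λ] W) : Prop := ∃ e : V ≃ₗ[Λ] W, ∀ x, e (φ x) = ψ (e x)

variable {φ : V →ₗ[Λ] V} {ψ : W →ₗ[Λ] W} {θ : U →ₗ[Λ] U}

theorem Conj.refl (φ : V →ₗ[Λ] V) : Conj φ φ := ⟨LinearEquiv.refl Λ V, fun _ => rfl⟩

theorem Conj.symm (h : Conj φ ψ) : Conj ψ φ := by
  obtain ⟨e, he⟩ := h
  refine ⟨e.symm, fun x => ?_⟩
  apply e.injective
  rw [he, e.apply_symm_apply, e.apply_symm_apply]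

theorem Conj.trans (h : Conj φ ψ) (h' : Conj ψ θ) : Conj φ θ := by
  obtain ⟨e, he⟩ := h
  obtain ⟨e', he'⟩ := h'
  exact ⟨e.trans e', fun x => by rw [LinearEquiv.trans_apply, he, he', LinearEquiv.trans_apply]⟩

theorem Conj.eq_conj (e : V ≃ₗ[Λ] W) (he : ∀ x, e (φ x) = ψ (e x)) : ψ = e.conj φ := by
  ext y
  rw [LinearEquiv.conj_apply_apply, he, e.apply_symm_apply]

theorem Conj.trace_eq (h : Conj φ ψ) : LinearMap.trace Λ V φ = LinearMap.trace Λ W ψ := by
  obtain ⟨e, he⟩ := h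
  rw [Conj.eq_conj e he, LinearMap.trace_conj']

theorem Conj.charRev_eq (h : Conj φ ψ) : FinFr.charRev φ = FinFr.charRev ψ := by
  obtain ⟨e, he⟩ := h
  let E : TensorProduct Λ Λ[X] V ≃ₗ[Λ[X]] TensorProduct Λ Λ[X] W := e.baseChange Λ Λ[X] V W
  have hE : ∀ (p : Λ[X]) (v : V), E (p ⊗ₜ[Λ] v) = p ⊗ₜ[Λ] (e v) := fun p v => rfl
  rw [FinFr.charRev, FinFr.charRev, ← LinearMap.det_conj _ E]
  congr 1
  ext w
  simp only [TensorProduct.AlgebraTensorModule.curry_apply,
    TensorProduct.curry_apply, LinearMap.coe_comp, Function.comp_apply, LinearMap.coe_restrictScalars,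
    LinearEquiv.coe_coe, LinearMap.sub_apply, LinearMap.id_coe, id_eq, LinearMap.smul_apply]
  have h1 : E.symm ((1 : Λ[X]) ⊗ₜ[Λ] w) = (1 : Λ[X]) ⊗ₜ[Λ] (e.symm w) := by
    apply E.injective
    rw [E.apply_symm_apply, hE, e.apply_symm_apply]
  rw [h1, LinearMap.baseChange_tmul, map_sub, map_smul, hE, hE, he, e.apply_symm_apply,
    LinearMap.baseChange_tmul]

theorem Conj.finite_iff (h : Conj φ ψ) : Module.Finite Λ V ↔ Module.Finite Λ W := by
  obtain ⟨e, -⟩ := h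
  exact ⟨fun _ => Module.Finite.equiv e, fun _ => Module.Finite.equiv e.symm⟩

theorem Conj.subsingleton_iff (h : Conj φ ψ) : Subsingleton V ↔ Subsingleton W := by
  obtain ⟨e, -⟩ := h
  exact e.toEquiv.subsingleton_congr

/-- Two endomorphisms of zero modules. -/
theorem Conj.of_subsingleton [Subsingleton V] [Subsingleton W] : Conj φ ψ :=
  ⟨⟨0, 0, fun _ => Subsingleton.elim _ _, fun _ => Subsingleton.elim _ _⟩, fun _ => Subsingleton.elim _ _⟩

theorem trace_of_subsingleton [Subsingleton V] (φ : V →ₗ[Λ] V) : LinearMap.trace Λ V φ = 0 := by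
  have : φ = 0 := LinearMap.ext fun _ => Subsingleton.elim _ _
  rw [this, map_zero]

end

theorem charRev_of_subsingleton {Λ : Type} [CommRing Λ] {V : Type v} [AddCommGroup V] [Module Λ V]
    [Subsingleton V] (φ : V →ₗ[Λ] V) : FinFr.charRev φ = 1 := by
  have : Subsingleton (TensorProduct Λ Λ[X] V) := inferInstance
  rw [FinFr.charRev]
  have h0 : LinearMap.id - (X : Λ[X]) • φ.baseChange Λ[X] =
      (LinearMap.id : TensorProduct Λ Λ[X] V →ₗ[Λ[X]] TensorProduct Λ Λ[X] V) :=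
    LinearMap.ext fun x => Subsingleton.elim _ _
  rw [h0, LinearMap.det_id]

theorem Conj.val_eq {Λ : Type} [Field Λ] {A : Type x} [AddCommGroup A] (χ : Inv.{v} Λ A)
    {V W : Type v} [AddCommGroup V] [Module Λ V] [AddCommGroup W] [Module Λ W] [FiniteDimensional Λ W]
    {φ : V →ₗ[Λ] V} {ψ : W →ₗ[Λ] W} (h : Conj φ ψ) : χ.val V φ = χ.val W ψ := by
  obtain ⟨e, he⟩ := h
  exact χ.val_congr e φ ψ he

end Groth.Agent.Sga4h.H923.Conj
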