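import Groth.Agent.Sga4h.H923.DevDef
import Groth.Agent.Etcore.FinPushFG
import Groth.Agent.Etrest.BlowGeom
import Groth.Agent.Etrest.FinRed
import Groth.Agent.Etrest.FinGen
import Groth.Agent.Etrest.FinMain

/-!
# Devissage-stable properties: closed immersions, open/closed decomposition, modifications

For `G` devissage-stable (`IsDev G`):
* `of_iso`: `G` is invariant under equivariant isomorphisms;
* `closed_iff`: `G (i ≫ b) M ↔ G b (i_* M)` for a closed immersion `i`;
* `of_open_closed`: `G b (j_! j^* L)` and `G (i ≫ b) (i^* L)` imply `G b L`;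
* `of_modification`: `G w L ↔ G (p ≫ w) (p^* L)` for `p` proper, an isomorphism off a closed `Z` with `L|_Z = 0`.
-/

set_option autoImplicit false
universe u
open CategoryTheory CategoryTheory.Limits AlgebraicGeometry Opposite
open scoped ZeroObject

namespace Groth.Agent.Sga4h.H923.DevBasic

open Groth.Agent.Etcore.LamFG Groth.Agent.Etcore.FinPushFG Groth.Agent.Sga4h.H923.DevDef
  Groth.Agent.Etrest Groth.Agent.Etrest.FinCons Groth.Agent.EtpbcA

variable {Λ : Type} [CommRing Λ]

/-- The zero sheaf. -/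
noncomputable def zeroSh (Λ : Type) [CommRing Λ] (P : Scheme.{u}) : EtLam.Sheaf Λ P where
  carrier := 0
  act :=
    { toFun := fun _ => 0
      map_one' := (isZero_zero _).eq_of_src _ _
      map_mul' := fun _ _ => (isZero_zero _).eq_of_src _ _
      map_zero' := rfl
      map_add' := fun _ _ => (isZero_zero _).eq_of_src _ _ }

/-- The restriction along an open immersion, through `EtShriek.restrAlong`. -/
noncomputable def restr {U P : Scheme.{u}} (j : U ⟶ P) [IsOpenImmersion j] (L : EtLam.Sheaf Λ P) :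
    EtLam.Sheaf Λ U :=
  ⟨(EtShriek.restrAlong j).obj L.carrier, mapA (EtShriek.restrAlong j) L.act⟩

variable {k : Type u} [Field k] {G : Pred.{u} Λ k} (hG : IsDev G)

include hG

theorem of_iso {P : Scheme.{u}} (b : P ⟶ Spec (CommRingCat.of k)) [IsProper b] {L M : EtLam.Sheaf Λ P}
    (e : L.carrier ≅ M.carrier) (he : Equi L.act M.act e.hom) (hL : EtPBC.IsConstructible L.carrier)
    (h : G b L) : G b M := by
  have hz : IsZero (zeroSh Λ P).carrier := isZero_zero _
  have hw : (0 : (zeroSh Λ P).carrier ⟶ L.carrier) ≫ e.hom = 0 := zero_comp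
  have hS : (ShortComplex.mk (0 : (zeroSh Λ P).carrier ⟶ L.carrier) e.hom hw).ShortExact := by
    refine ShortComplex.ShortExact.mk' ?_ ⟨fun _ _ _ => hz.eq_of_tgt _ _⟩ (inferInstanceAs (Epi e.hom))
    rw [ShortComplex.exact_iff_mono _ rfl]
    exact inferInstanceAs (Mono e.hom)
  exact (hG.ses b (zeroSh Λ P) L M 0 e.hom hw hS (fun r => by simp) he
    (EtpbcA.ConsExact.isConstructible_of_isZero hz) hL
    (EtpbcA.StrataGlob.isConstructible_of_iso e hL)).1 (hG.zero b _ hz) h

theorem iso_iff {P : Scheme.{u}} (b : P ⟶ Spec (CommRingCat.of k)) [IsProper b] {L M : EtLam.Sheaf Λ P}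
    (e : L.carrier ≅ M.carrier) (he : Equi L.act M.act e.hom) (hL : EtPBC.IsConstructible L.carrier) :
    G b L ↔ G b M :=
  ⟨of_iso hG b e he hL, of_iso hG b e.symm (he.inv e) (EtpbcA.StrataGlob.isConstructible_of_iso e hL)⟩

theorem closed_iff {Z P : Scheme.{u}} (i : Z ⟶ P) [IsClosedImmersion i] (b : P ⟶ Spec (CommRingCat.of k))
    [IsProper b] (M : EtLam.Sheaf Λ Z) (hM : EtPBC.IsConstructible M.carrier) :
    G (i ≫ b) M ↔ G b (EtLam.pushforward i M) := by
  have hN : IsNoetherian P := FinRed.isNoetherian_of_proper b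
  have hlfp : LocallyOfFinitePresentation i :=
    LocallyOfFinitePresentation.iff_locallyOfFiniteType.2 inferInstance
  have h1 := hG.leray (i ≫ b) b i rfl M hM (fun {Y} z _ => by
    have : IsFinite (pullback.snd i z ≫ z ≫ b) := inferInstance
    exact hG.fin _ _ (cons_pull _ hM)) (fun q hq => hG.zero b _
      (Groth.Agent.S0071.result i M.carrier q hq))
  rw [h1]
  refine iso_iff hG b ((Groth.Agent.Etrest.FinComp.rpushZero i).app M.carrier) ?_
    (Groth.Agent.Etrest.FinMain.finite_case i M.carrier hM 0)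
  intro r
  exact (Groth.Agent.Etrest.FinComp.rpushZero i).hom.naturality (M.act r)

omit hG in
theorem cons_extZero_restr {U P : Scheme.{u}} [IsNoetherian P] (j : U ⟶ P) [IsOpenImmersion j]
    {L : EtLam.Sheaf Λ P} (hL : EtPBC.IsConstructible L.carrier) :
    EtPBC.IsConstructible (FinFr.extZeroLam j (restr j L)).carrier := by
  let T : TopologicalSpace.Closeds P := ⟨(Set.range j)ᶜ, j.isOpenEmbedding.isOpen_range.isClosed_compl⟩
  let I := Scheme.IdealSheafData.vanishingIdeal T
  have hI : Set.range I.subschemeι = (Set.range j)ᶜ := by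
    rw [Scheme.IdealSheafData.range_subschemeι, Scheme.IdealSheafData.coe_support_vanishingIdeal]
    rfl
  have hd : IsCompl (Set.range I.subschemeι) (Set.range j) := by
    rw [hI]
    exact isCompl_compl.symm
  have hS := Groth.Agent.Etcore.OpenClosed.shortExact I.subschemeι j hd L.carrier
  let f : (FinFr.extZeroLam j (restr j L)).carrier ⟶ L.carrier :=
    (EtShriek.extZeroAdj j).counit.app L.carrier
  have : Mono f := hS.mono_f
  exact (cons P).prop_of_mono f hL

/-- Open/closed decomposition. -/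
theorem of_open_closed {Z U P : Scheme.{u}} (i : Z ⟶ P) [IsClosedImmersion i] (j : U ⟶ P)
    [IsOpenImmersion j] (hd : IsCompl (Set.range i) (Set.range j)) (b : P ⟶ Spec (CommRingCat.of k))
    [IsProper b] (L : EtLam.Sheaf Λ P) (hL : EtPBC.IsConstructible L.carrier)
    (h1 : G b (FinFr.extZeroLam j (restr j L))) (h2 : G (i ≫ b) (EtLam.pullback i L)) :
    G b L := by
  have hN : IsNoetherian P := FinRed.isNoetherian_of_proper b
  have h3 : G b (EtLam.pushforward i (EtLam.pullback i L)) :=
    (closed_iff hG i b (EtLam.pullback i L) (cons_pull i hL)).1 h2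
  have hS := Groth.Agent.Etcore.OpenClosed.shortExact i j hd L.carrier
  have hc1 := cons_extZero_restr j hL
  let g : L.carrier ⟶ (EtLam.pushforward i (EtLam.pullback i L)).carrier :=
    (EtCoh.pullPushAdj i).unit.app L.carrier
  have : Epi g := hS.epi_g
  have hc3 : EtPBC.IsConstructible (EtLam.pushforward i (EtLam.pullback i L)).carrier :=
    (cons P).prop_of_epi g hL
  exact (hG.ses b (FinFr.extZeroLam j (restr j L)) L (EtLam.pushforward i (EtLam.pullback i L))
    ((EtShriek.extZeroAdj j).counit.app L.carrier) ((EtCoh.pullPushAdj i).unit.app L.carrier)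
    (Groth.Agent.Etcore.OpenClosed.counit_unit i j hd.disjoint L.carrier) hS
    (fun r => (EtShriek.extZeroAdj j).counit.naturality (L.act r))
    (fun r => (EtCoh.pullPushAdj i).unit.naturality (L.act r)) hc1 hL hc3).2.1 h1 h3

/-- Modifications. -/
theorem of_modification {W W₁ U U' Z : Scheme.{u}} (p : W₁ ⟶ W) [IsProper p] (i : Z ⟶ W)
    [IsClosedImmersion i] (j : U ⟶ W) [IsOpenImmersion j] (hd : IsCompl (Set.range i) (Set.range j))
    (j' : U' ⟶ W₁) (pU : U' ⟶ U) (h : IsPullback j' pU p j) [IsIso pU]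
    (w : W ⟶ Spec (CommRingCat.of k)) [IsProper w] (L : EtLam.Sheaf Λ W)
    (hL : EtPBC.IsConstructible L.carrier) (hL0 : IsZero ((EtCoh.pull i).obj L.carrier))
    (hfib : ∀ {Y : Scheme.{u}} (y : Y ⟶ W) [IsFinite (y ≫ w)],
      G (pullback.snd p y ≫ y ≫ w) (EtLam.pullback (pullback.fst p y) (EtLam.pullback p L)))
    (h1 : G (p ≫ w) (EtLam.pullback p L)) : G w L := by
  have hN : IsNoetherian W := FinRed.isNoetherian_of_proper w
  have hN1 : IsNoetherian W₁ := FinRed.isNoetherian_of_proper (p ≫ w)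
  have hT : EtCoh.IsTorsion L.carrier := KilledBy.isTorsion_of_isConstructible hL
  obtain ⟨ha, hb⟩ := BlowGeom.acyc p i j hd j' pU h (pullback.fst p i) (pullback.snd p i)
    (IsPullback.of_hasPullback p i) L.carrier hT hL0
  have h2 := (hG.leray (p ≫ w) w p rfl (EtLam.pullback p L) (cons_pull p hL) hfib
    (fun q hq => hG.zero w _ (hb q hq))).1 h1
  let e : L.carrier ≅ (rpush p 0 (EtLam.pullback p L)).carrier :=
    asIso ((EtCoh.pullPushAdj p).unit.app L.carrier) ≪≫
      ((Groth.Agent.Etrest.FinComp.rpushZero p).app ((EtCoh.pull p).obj L.carrier)).symm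
  refine (iso_iff hG w (L := L) (M := rpush p 0 (EtLam.pullback p L)) e (fun r => ?_) hL).2 h2
  have e1 := (EtCoh.pullPushAdj p).unit.naturality (L.act r)
  have e2 := (Groth.Agent.Etrest.FinComp.rpushZero p).inv.naturality ((EtCoh.pull p).map (L.act r))
  change (L.act r) ≫ ((EtCoh.pullPushAdj p).unit.app L.carrier ≫
    (Groth.Agent.Etrest.FinComp.rpushZero p).inv.app ((EtCoh.pull p).obj L.carrier)) =
    ((EtCoh.pullPushAdj p).unit.app L.carrier ≫
    (Groth.Agent.Etrest.FinComp.rpushZero p).inv.app ((EtCoh.pull p).obj L.carrier)) ≫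
      (EtCoh.Rpush p 0).map ((EtCoh.pull p).map (L.act r))
  rw [Category.assoc, ← e2, ← Category.assoc, ← Category.assoc]
  exact congrArg (fun t => t ≫ _) e1

end Groth.Agent.Sga4h.H923.DevBasic
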