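import Groth.Agent.Sga4h.H925.Defs

/-!
# The prelude's `frobC`, `locTrace`, `locFactor` in terms of `frobK` (conversions, slow in the kernel)
-/

set_option autoImplicit false
universe u w
open CategoryTheory CategoryTheory.Limits AlgebraicGeometry Opposite

namespace Groth.Agent.Sga4h.H923.FrobEqs

open Groth.Agent.Sga4h.H925.Defs

variable {Λ : Type} [CommRing Λ] {k : Type u} [Field k] (K : Type u) [Field K] [Algebra k K]
  [Fintype k] [Algebra.IsAlgebraic k K] [Fact FinFr.PullExact.{u}]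

theorem locTrace_eq {X : Scheme.{u}} (x : Spec (CommRingCat.of k) ⟶ X) (L : EtLam.Sheaf Λ X) :
    FinFr.locTrace (K := K) x L =
      LinearMap.trace Λ (HK K (𝟙 (Spec (CommRingCat.of k))) (EtLam.pullback x L) 0)
        (frobK K (𝟙 (Spec (CommRingCat.of k))) (EtLam.pullback x L) 0) := rfl

theorem charRev_locFrob {X : Scheme.{u}} (x : Spec (CommRingCat.of k) ⟶ X) (L : EtLam.Sheaf Λ X) :
    FinFr.charRev (FinFr.locFrob (K := K) x L) =
      FinFr.charRev (frobK K (𝟙 (Spec (CommRingCat.of k))) (EtLam.pullback x L) 0) := rfl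

theorem trace_frobC {X P : Scheme.{u}} (j : X ⟶ P) [IsOpenImmersion j]
    (b : P ⟶ Spec (CommRingCat.of k)) (L : EtLam.Sheaf Λ X) (i : ℕ) :
    LinearMap.trace Λ _ (FinFr.frobC (K := K) j b L i) =
      LinearMap.trace Λ (HK K b (FinFr.extZeroLam j L) i) (frobK K b (FinFr.extZeroLam j L) i) := rfl

theorem charRev_frobC {X P : Scheme.{u}} (j : X ⟶ P) [IsOpenImmersion j]
    (b : P ⟶ Spec (CommRingCat.of k)) (L : EtLam.Sheaf Λ X) (i : ℕ) :
    FinFr.charRev (FinFr.frobC (K := K) j b L i) =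
      FinFr.charRev (frobK K b (FinFr.extZeroLam j L) i) := rfl

end Groth.Agent.Sga4h.H923.FrobEqs
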