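import Groth.Prelude.Def_FinFr
import Groth.Agent.Etcore.LamFG
import Groth.Agent.Etcore.PullCoh
import Groth.Agent.Etcore.ShriekUnique
import Groth.Agent.Etcore.ShriekBaseChange

/-!
# Isomorphism classes of etale sheaves of `Λ`-modules; restriction of an extension by zero

* `LEq L M`: there is an isomorphism of carriers commuting with the actions of `Λ`;
* `LEq.pull`, `LEq.push`, `LEq.extZero`, `pull_comp`;
* `pull_extZero`: `j⁻¹ j_! L ≅ L`; `pull_extZero_of_fac`: `x⁻¹ j_! L ≅ x'⁻¹ L` for `x = x' ≫ j`;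
* `isZero_pull_extZero`: `x⁻¹ j_! L = 0` if `x` does not meet the image of `j`;
* `extZero_bc`: extension by zero commutes with base change.
-/

set_option autoImplicit false
universe u
open CategoryTheory CategoryTheory.Limits AlgebraicGeometry Opposite

namespace Groth.Agent.Sga4h.H923.LamEq

open Groth.Agent.Etcore.LamFG Groth.Agent.Etcore.PullCoh Groth.Agent.Etcore.ShriekBasic

variable {Λ : Type} [CommRing Λ] {W X Y Z : Scheme.{u}}

/-- `L` and `M` are isomorphic as etale sheaves of `Λ`-modules. -/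
def LEq (L M : EtLam.Sheaf Λ X) : Prop := ∃ e : L.carrier ≅ M.carrier, Equi L.act M.act e.hom

namespace LEq

variable {L M N : EtLam.Sheaf Λ X}

theorem refl (L : EtLam.Sheaf Λ X) : LEq L L := ⟨Iso.refl _, Equi.id⟩

theorem symm (h : LEq L M) : LEq M L := by
  obtain ⟨e, he⟩ := h
  exact ⟨e.symm, he.inv e⟩

theorem trans (h : LEq L M) (h' : LEq M N) : LEq L N := by
  obtain ⟨e, he⟩ := h
  obtain ⟨e', he'⟩ := h'
  exact ⟨e ≪≫ e', he.comp he'⟩

theorem of_eq (h : L = M) : LEq L M := h ▸ refl L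

theorem isZero_iff (h : LEq L M) : IsZero L.carrier ↔ IsZero M.carrier := by
  obtain ⟨e, -⟩ := h
  exact e.isZero_iff

/-- transport along an additive functor -/
theorem map (F : EtCoh.Ab X ⥤ EtCoh.Ab Y) [F.Additive] (h : LEq L M) :
    LEq (⟨F.obj L.carrier, EtLam.mapAct F L.act⟩ : EtLam.Sheaf Λ Y)
      ⟨F.obj M.carrier, EtLam.mapAct F M.act⟩ := by
  obtain ⟨e, he⟩ := h
  refine ⟨F.mapIso e, fun r => ?_⟩
  change F.map (L.act r) ≫ F.map e.hom = F.map e.hom ≫ F.map (M.act r)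
  rw [← F.map_comp, ← F.map_comp]
  exact congrArg F.map (he r)

theorem pull (g : Y ⟶ X) (h : LEq L M) : LEq (EtLam.pullback g L) (EtLam.pullback g M) :=
  h.map (EtCoh.pull g)

theorem push (g : X ⟶ Y) (h : LEq L M) : LEq (EtLam.pushforward g L) (EtLam.pushforward g M) :=
  h.map (EtCoh.push g)

theorem extZero (j : X ⟶ Y) [IsOpenImmersion j] (h : LEq L M) :
    LEq (FinFr.extZeroLam j L) (FinFr.extZeroLam j M) :=
  h.map (EtShriek.extZero j)

end LEq

/-- A natural isomorphism between additive functors gives an equivariant isomorphism. -/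
theorem of_natIso {F G : EtCoh.Ab X ⥤ EtCoh.Ab Y} [F.Additive] [G.Additive] (τ : F ≅ G)
    (L : EtLam.Sheaf Λ X) :
    LEq (⟨F.obj L.carrier, EtLam.mapAct F L.act⟩ : EtLam.Sheaf Λ Y) ⟨G.obj L.carrier, EtLam.mapAct G L.act⟩ :=
  ⟨τ.app L.carrier, fun r => τ.hom.naturality (L.act r)⟩

/-- Pull-back along a composite. -/
theorem pull_comp (f : X ⟶ Y) (g : Y ⟶ Z) (h : X ⟶ Z) (w : f ≫ g = h) (L : EtLam.Sheaf Λ Z) :
    LEq (EtLam.pullback f (EtLam.pullback g L)) (EtLam.pullback h L) :=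
  ⟨(theta f g h w).app L.carrier, fun r => th_nat f g h w (L.act r)⟩

/-- Two factorisations of the same morphism. -/
theorem pull_congr {Y' : Scheme.{u}} (f : X ⟶ Y) (g : Y ⟶ Z) (f' : X ⟶ Y') (g' : Y' ⟶ Z)
    (w : f ≫ g = f' ≫ g') (L : EtLam.Sheaf Λ Z) :
    LEq (EtLam.pullback f (EtLam.pullback g L)) (EtLam.pullback f' (EtLam.pullback g' L)) :=
  (pull_comp f g (f' ≫ g') w L).trans (pull_comp f' g' _ rfl L).symm

/-- `j⁻¹ j_! ≅ id` for an open immersion. -/
noncomputable def pullExtZeroIso (j : X ⟶ Y) [IsOpenImmersion j] :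
    EtShriek.extZero j ⋙ EtCoh.pull j ≅ 𝟭 (EtCoh.Ab X) :=
  Functor.isoWhiskerLeft (EtShriek.extZero j) (pullIsoRestr j) ≪≫
    (asIso (EtShriek.extZeroAdj j).unit).symm

/-- `j⁻¹ j_! L ≅ L`. -/
theorem pull_extZero (j : X ⟶ Y) [IsOpenImmersion j] (L : EtLam.Sheaf Λ X) :
    LEq (EtLam.pullback j (FinFr.extZeroLam j L)) L :=
  ⟨(pullExtZeroIso j).app L.carrier, fun r => (pullExtZeroIso j).hom.naturality (L.act r)⟩

/-- `x⁻¹ j_! L ≅ x'⁻¹ L` for `x = x' ≫ j`. -/
theorem pull_extZero_of_fac (j : X ⟶ Y) [IsOpenImmersion j] (x' : W ⟶ X) (x : W ⟶ Y)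
    (hx : x' ≫ j = x) (L : EtLam.Sheaf Λ X) :
    LEq (EtLam.pullback x (FinFr.extZeroLam j L)) (EtLam.pullback x' L) :=
  (pull_comp x' j x hx _).symm.trans ((pull_extZero j L).pull x')

/-- `x⁻¹ j_! L = 0` if `x` misses the image of `j`. -/
theorem isZero_pull_extZero (j : X ⟶ Y) [IsOpenImmersion j] (x : W ⟶ Y)
    (hx : ∀ t : W, x t ∉ Set.range j) (L : EtLam.Sheaf Λ X) :
    IsZero (EtLam.pullback x (FinFr.extZeroLam j L)).carrier := by
  rw [Groth.Agent.Etcore.Stalks.isZero_iff_stalks]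
  intro Ω _ _ ξ
  refine IsZero.of_iso ?_ ((Groth.Agent.Etbase.StalkPull.stalkPullIso x ξ).app _).symm
  refine Groth.Agent.Etcore.ShriekUnique.isZero_stalk_extZero' j (ξ ≫ x) ?_ _
  rw [Scheme.Hom.comp_apply]
  exact hx _

/-- Extension by zero commutes with base change. -/
theorem extZero_bc {V V' T S : Scheme.{u}} (j : V ⟶ S) [IsOpenImmersion j] (f : T ⟶ S) (j' : V' ⟶ T)
    [IsOpenImmersion j'] (f' : V' ⟶ V) (h : IsPullback j' f' f j) (L : EtLam.Sheaf Λ V) :
    LEq (EtLam.pullback f (FinFr.extZeroLam j L)) (FinFr.extZeroLam j' (EtLam.pullback f' L)) := by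
  refine LEq.symm ?_
  exact ⟨(Groth.Agent.Etcore.ShriekBaseChange.extZeroBaseChange j f j' f' h).app L.carrier, fun r =>
    (Groth.Agent.Etcore.ShriekBaseChange.extZeroBaseChange j f j' f' h).hom.naturality (L.act r)⟩

end Groth.Agent.Sga4h.H923.LamEq
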