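import Groth.Agent.Sga4h.H925.Defs
import Groth.Agent.Etcore.HpVia
import Groth.Agent.Etcore.HpullViaEq
import Groth.Agent.Sga4h.H923.LamEq

/-!
# Naturality of the Galois action / geometric Frobenius for `k`-morphisms

For `g : X ⟶ Y` over `k` and a sheaf `G` on `Y`:
* `nat K a b g w G n : H^n(Y_K, G) →+ H^n(X_K, g⁻¹ G)`, commuting with the Galois action (`nat_gal`), natural in `G`
  (`nat_map`), bijective if `g` is an isomorphism (`nat_bijective`);
* `natLin` the `Λ`-linear version on `HK`, commuting with `frobK` (`natLin_frobK`).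
-/

set_option autoImplicit false
universe u w
open CategoryTheory CategoryTheory.Limits AlgebraicGeometry Opposite Abelian
open scoped Groth.Agent.Etcore.EtInst
open Groth.Agent.Etcore.EtInst Groth.Agent.Etcore.HpullCalc Groth.Agent.Etcore.PullCoh

namespace Groth.Agent.Sga4h.H923.FrobNat

attribute [local instance] Groth.Agent.S0101.result

section General

variable {k : Type u} [Field k] (K : Type u) [Field K] [Algebra k K] {X Y : Scheme.{u}}
  (a : X ⟶ Spec (CommRingCat.of k)) (b : Y ⟶ Spec (CommRingCat.of k)) (g : X ⟶ Y) (w : g ≫ b = a)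

theorem extHom_snd : FinFr.extHom K a g w ≫ FinFr.extStr K b = FinFr.extStr K a :=
  (pullback.lift_snd _ _ _).trans (Category.comp_id _)

/-- The Galois action commutes with base changed `k`-morphisms. -/
theorem galAct_extHom (σ : K ≃ₐ[k] K) :
    FinFr.extHom K a g w ≫ FinFr.galAct b σ = FinFr.galAct a σ ≫ FinFr.extHom K a g w := by
  apply pullback.hom_ext
  · rw [Category.assoc, Category.assoc]
    erw [FinFr.galAct_fst b σ, FinFr.extHom_fst]
    rw [← Category.assoc]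
    erw [FinFr.galAct_fst a σ]
  · rw [Category.assoc, Category.assoc]
    erw [FinFr.galAct_snd b σ, extHom_snd K a b g w]
    rw [← Category.assoc]
    erw [extHom_snd K a b g w]
    exact (FinFr.galAct_snd a σ).symm

instance isIso_extHom [IsIso g] : IsIso (FinFr.extHom K a g w) := by
  unfold FinFr.extHom
  infer_instance

/-- Pull-back along `g × id : X_K ⟶ Y_K`. -/
noncomputable def nat (G : EtCoh.Ab Y) (n : ℕ) :
    HH (FinFr.ext K b) ((EtCoh.pull (FinFr.extπ K b)).obj G) n →+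
      HH (FinFr.ext K a) ((EtCoh.pull (FinFr.extπ K a)).obj ((EtCoh.pull g).obj G)) n :=
  (HHmap (CategoryTheory.inv (th (FinFr.extπ K a) g (FinFr.extπ K a ≫ g) rfl G)) n).comp
    (hpVia (FinFr.extHom K a g w) (FinFr.extπ K b) (FinFr.extπ K a ≫ g) (FinFr.extHom_fst a g w) G n)

theorem nat_apply (G : EtCoh.Ab Y) (n : ℕ)
    (x : HH (FinFr.ext K b) ((EtCoh.pull (FinFr.extπ K b)).obj G) n) :
    nat K a b g w G n x = HHmap (CategoryTheory.inv (th (FinFr.extπ K a) g (FinFr.extπ K a ≫ g) rfl G)) n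
      (hpVia (FinFr.extHom K a g w) (FinFr.extπ K b) (FinFr.extπ K a ≫ g) (FinFr.extHom_fst a g w) G n x) :=
  rfl

theorem th_nat_apply (G : EtCoh.Ab Y) (n : ℕ)
    (x : HH (FinFr.ext K b) ((EtCoh.pull (FinFr.extπ K b)).obj G) n) :
    HHmap (th (FinFr.extπ K a) g (FinFr.extπ K a ≫ g) rfl G) n (nat K a b g w G n x) =
      hpVia (FinFr.extHom K a g w) (FinFr.extπ K b) (FinFr.extπ K a ≫ g) (FinFr.extHom_fst a g w) G n x := by
  rw [nat_apply, ← HHmap_comp, IsIso.inv_hom_id, HHmap_id]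

/-- `nat` commutes with the Galois action. -/
theorem nat_gal (σ : K ≃ₐ[k] K) (G : EtCoh.Ab Y) (n : ℕ)
    (x : HH (FinFr.ext K b) ((EtCoh.pull (FinFr.extπ K b)).obj G) n) :
    nat K a b g w G n (hpVia (FinFr.galAct b σ) (FinFr.extπ K b) (FinFr.extπ K b) (FinFr.galAct_fst b σ) G n x) =
      hpVia (FinFr.galAct a σ) (FinFr.extπ K a) (FinFr.extπ K a) (FinFr.galAct_fst a σ)
        ((EtCoh.pull g).obj G) n (nat K a b g w G n x) := by
  have w₃ : FinFr.galAct a σ ≫ FinFr.extπ K a ≫ g = FinFr.extπ K a ≫ g := by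
    rw [← Category.assoc]
    erw [FinFr.galAct_fst a σ]
  have w₄ : (FinFr.extHom K a g w ≫ FinFr.galAct b σ) ≫ FinFr.extπ K b = FinFr.extπ K a ≫ g := by
    rw [Category.assoc]
    erw [FinFr.galAct_fst b σ, FinFr.extHom_fst]
  apply (HHmap_bijective (th (FinFr.extπ K a) g (FinFr.extπ K a ≫ g) rfl G) n).1
  rw [th_nat_apply, ← Groth.Agent.Etcore.HpVia.hpVia_HHmap_th (FinFr.galAct a σ) (FinFr.extπ K a) g
    (FinFr.extπ K a) (FinFr.extπ K a ≫ g) (FinFr.extπ K a ≫ g) (FinFr.galAct_fst a σ) rfl w₃ rfl G n,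
    th_nat_apply,
    Groth.Agent.Etcore.HpVia.hpVia_hpVia (FinFr.extHom K a g w) (FinFr.galAct b σ) (FinFr.extπ K b)
      (FinFr.extHom K a g w ≫ FinFr.galAct b σ) (FinFr.extπ K b) (FinFr.extπ K a ≫ g) rfl
      (FinFr.galAct_fst b σ) (FinFr.extHom_fst a g w) w₄ G n x,
    Groth.Agent.Etcore.HpVia.hpVia_hpVia (FinFr.galAct a σ) (FinFr.extHom K a g w) (FinFr.extπ K b)
      (FinFr.extHom K a g w ≫ FinFr.galAct b σ) (FinFr.extπ K a ≫ g) (FinFr.extπ K a ≫ g)
      (galAct_extHom K a b g w σ).symm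
      (FinFr.extHom_fst a g w) w₃ w₄ G n x]

/-- `nat` is natural in the sheaf. -/
theorem nat_map {G G' : EtCoh.Ab Y} (φ : G ⟶ G') (n : ℕ)
    (x : HH (FinFr.ext K b) ((EtCoh.pull (FinFr.extπ K b)).obj G) n) :
    nat K a b g w G' n (HHmap ((EtCoh.pull (FinFr.extπ K b)).map φ) n x) =
      HHmap ((EtCoh.pull (FinFr.extπ K a)).map ((EtCoh.pull g).map φ)) n (nat K a b g w G n x) := by
  apply (HHmap_bijective (th (FinFr.extπ K a) g (FinFr.extπ K a ≫ g) rfl G') n).1
  rw [th_nat_apply, hpVia_map, ← HHmap_comp, th_nat, HHmap_comp, th_nat_apply]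

theorem nat_bijective [IsIso g] (G : EtCoh.Ab Y) (n : ℕ) : Function.Bijective (nat K a b g w G n) := by
  have h1 : Function.Bijective (hpVia (FinFr.extHom K a g w) (FinFr.extπ K b) (FinFr.extπ K a ≫ g)
      (FinFr.extHom_fst a g w) G n) :=
    (bijective_hpVia_iff _ _ _ _ _ _).2 (Groth.Agent.Etcore.HpVia.hp_bijective_of_isIso _ _ _)
  exact (HHmap_bijective (CategoryTheory.inv (th (FinFr.extπ K a) g (FinFr.extπ K a ≫ g) rfl G)) n).comp h1

end General

end Groth.Agent.Sga4h.H923.FrobNat
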