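import Groth.Agent.Sga4h.H925.Defs
import Groth.Agent.Etcore.HpVia
import Groth.Agent.Etcore.HpullViaEq
import Groth.Agent.Etcore.LamFG

/-!
# `HL L n` and `HH X L.carrier n`: the conversion, done once (kernel speed)

`toHH L n : HL L n ≃+ HH X L.carrier n` is the identity, but a definition: after the three lemmas
`toHH_smul`, `toHH_frobK` everything about `HL`, `HK`, `frobK` can be done without unfolding the old instances.
-/

set_option autoImplicit false
universe u w
open CategoryTheory CategoryTheory.Limits AlgebraicGeometry Opposite Abelian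
open scoped Groth.Agent.Etcore.EtInst
open Groth.Agent.Etcore.EtInst Groth.Agent.Etcore.HpullCalc Groth.Agent.Etcore.PullCoh

namespace Groth.Agent.Sga4h.H923.ToHH

open Groth.Agent.Sga4h.H925.Defs Groth.Agent.Etcore.LamFG

attribute [local instance] Groth.Agent.S0101.result

variable {Λ : Type} [CommRing Λ]

/-- The identity `HL L n → HH X L.carrier n`. -/
noncomputable def toHH {X : Scheme.{u}} (L : EtLam.Sheaf Λ X) (n : ℕ) : HL L n ≃+ HH X L.carrier n :=
  AddEquiv.refl (HH X L.carrier n)

theorem toHH_smul {X : Scheme.{u}} (L : EtLam.Sheaf Λ X) (n : ℕ) (r : Λ) (x : HL L n) :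
    toHH L n (r • x) = HHmap (L.act r) n (toHH L n x) := rfl

theorem toHH_frobK {k : Type u} [Field k] (K : Type u) [Field K] [Algebra k K] [Fintype k]
    [Algebra.IsAlgebraic k K] [Fact FinFr.PullExact.{u}] {P : Scheme.{u}}
    (b : P ⟶ Spec (CommRingCat.of k)) (M : EtLam.Sheaf Λ P) (n : ℕ) (x : HK K b M n) :
    toHH (EtLam.pullback (FinFr.extπ K b) M) n (frobK K b M n x) =
      hpVia (FinFr.galAct b (FinFr.arith k K).symm) (FinFr.extπ K b) (FinFr.extπ K b)
        (FinFr.galAct_fst b _) M.carrier n (toHH (EtLam.pullback (FinFr.extπ K b) M) n x) := rfl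

end Groth.Agent.Sga4h.H923.ToHH
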