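import Groth.Agent.Sga4h.H923.FrobNat
import Groth.Agent.Sga4h.H923.ToHH
import Groth.Agent.Sga4h.H923.Conj

/-!
# `Λ`-linear naturality of the geometric Frobenius

* `lin`, `linEquiv`: linear maps on `HL` from equivariant maps on `HH`;
* `natLin K a b g w L n : HK K b L n →ₗ[Λ] HK K a (g⁻¹ L) n` for `g : X ⟶ Y` over `k`, commuting with `frobK`;
* `conj_pull` (`g` an isomorphism), `conj_LEq` (isomorphic `Λ`-sheaves): the Frobenius endomorphisms are conjugate;
* `frobK_of_isZero`.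
-/

set_option autoImplicit false
universe u w
open CategoryTheory CategoryTheory.Limits AlgebraicGeometry Opposite Abelian
open scoped Groth.Agent.Etcore.EtInst
open Groth.Agent.Etcore.EtInst Groth.Agent.Etcore.HpullCalc Groth.Agent.Etcore.PullCoh

namespace Groth.Agent.Sga4h.H923.LamNat

open Groth.Agent.Sga4h.H925.Defs Groth.Agent.Sga4h.H923.ToHH Groth.Agent.Sga4h.H923.FrobNat
  Groth.Agent.Sga4h.H923.LamEq Groth.Agent.Sga4h.H923.Conj

attribute [local instance] Groth.Agent.S0101.result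

variable {Λ : Type} [CommRing Λ]

/-- A linear map on `HL` from an equivariant map on `HH`. -/
noncomputable def lin {X Y : Scheme.{u}} {L : EtLam.Sheaf Λ X} {M : EtLam.Sheaf Λ Y} {m n : ℕ}
    (f : HH X L.carrier m →+ HH Y M.carrier n)
    (hf : ∀ r x, f (HHmap (L.act r) m x) = HHmap (M.act r) n (f x)) : HL L m →ₗ[Λ] HL M n where
  toFun x := (toHH M n).symm (f (toHH L m x))
  map_add' x y := by rw [map_add, map_add, map_add]
  map_smul' r x := by
    apply (toHH M n).injective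
    rw [AddEquiv.apply_symm_apply, toHH_smul, hf, RingHom.id_apply, toHH_smul, AddEquiv.apply_symm_apply]

theorem toHH_lin {X Y : Scheme.{u}} {L : EtLam.Sheaf Λ X} {M : EtLam.Sheaf Λ Y} {m n : ℕ}
    (f : HH X L.carrier m →+ HH Y M.carrier n)
    (hf : ∀ r x, f (HHmap (L.act r) m x) = HHmap (M.act r) n (f x)) (x : HL L m) :
    toHH M n (lin f hf x) = f (toHH L m x) :=
  (toHH M n).apply_symm_apply _

theorem lin_bijective {X Y : Scheme.{u}} {L : EtLam.Sheaf Λ X} {M : EtLam.Sheaf Λ Y} {m n : ℕ}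
    (f : HH X L.carrier m →+ HH Y M.carrier n)
    (hf : ∀ r x, f (HHmap (L.act r) m x) = HHmap (M.act r) n (f x)) (hb : Function.Bijective f) :
    Function.Bijective (lin f hf) :=
  (toHH M n).symm.bijective.comp (hb.comp (toHH L m).bijective)

/-- A linear equivalence on `HL` from an equivariant bijection on `HH`. -/
noncomputable def linEquiv {X Y : Scheme.{u}} {L : EtLam.Sheaf Λ X} {M : EtLam.Sheaf Λ Y} {m n : ℕ}
    (f : HH X L.carrier m →+ HH Y M.carrier n)
    (hf : ∀ r x, f (HHmap (L.act r) m x) = HHmap (M.act r) n (f x)) (hb : Function.Bijective f) :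
    HL L m ≃ₗ[Λ] HL M n :=
  LinearEquiv.ofBijective (lin f hf) (lin_bijective f hf hb)

theorem toHH_linEquiv {X Y : Scheme.{u}} {L : EtLam.Sheaf Λ X} {M : EtLam.Sheaf Λ Y} {m n : ℕ}
    (f : HH X L.carrier m →+ HH Y M.carrier n)
    (hf : ∀ r x, f (HHmap (L.act r) m x) = HHmap (M.act r) n (f x)) (hb : Function.Bijective f)
    (x : HL L m) : toHH M n (linEquiv f hf hb x) = f (toHH L m x) :=
  toHH_lin f hf x

/-- Vanishing. -/
theorem subsingleton_HL {X : Scheme.{u}} {L : EtLam.Sheaf Λ X} (h : IsZero L.carrier) (n : ℕ) :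
    Subsingleton (HL L n) := by
  have h1 : Subsingleton (HH X L.carrier n) := by
    refine subsingleton_of_forall_eq 0 fun x => ?_
    have := HHmap_id L.carrier n x
    rw [h.eq_of_src (𝟙 L.carrier) 0] at this
    rw [← this, HHmap_apply, Ext.mk₀_zero, Ext.comp_zero]
  exact (toHH L n).toEquiv.subsingleton

section Nat

variable {k : Type u} [Field k] (K : Type u) [Field K] [Algebra k K] {X Y : Scheme.{u}}
  (a : X ⟶ Spec (CommRingCat.of k)) (b : Y ⟶ Spec (CommRingCat.of k)) (g : X ⟶ Y) (w : g ≫ b = a)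

theorem act_pull {Z : Scheme.{u}} (f : Z ⟶ X) (M : EtLam.Sheaf Λ X) (r : Λ) :
    (EtLam.pullback f M).act r = (EtCoh.pull f).map (M.act r) := rfl

/-- Pull-back `H^n(Y_K, L) → H^n(X_K, g⁻¹ L)`. -/
noncomputable def natLin (L : EtLam.Sheaf Λ Y) (n : ℕ) :
    HK K b L n →ₗ[Λ] HK K a (EtLam.pullback g L) n :=
  lin (nat K a b g w L.carrier n) fun r x => nat_map K a b g w (L.act r) n x

theorem toHH_natLin (L : EtLam.Sheaf Λ Y) (n : ℕ) (x : HK K b L n) :
    toHH (EtLam.pullback (FinFr.extπ K a) (EtLam.pullback g L)) n (natLin K a b g w L n x) =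
      nat K a b g w L.carrier n (toHH (EtLam.pullback (FinFr.extπ K b) L) n x) :=
  toHH_lin _ _ x

theorem natLin_bijective [IsIso g] (L : EtLam.Sheaf Λ Y) (n : ℕ) :
    Function.Bijective (natLin K a b g w L n) :=
  lin_bijective _ _ (nat_bijective K a b g w L.carrier n)

variable [Fintype k] [Algebra.IsAlgebraic k K] [Fact FinFr.PullExact.{u}]

/-- The pull-back commutes with the geometric Frobenius. -/
theorem natLin_frobK (L : EtLam.Sheaf Λ Y) (n : ℕ) (x : HK K b L n) :
    natLin K a b g w L n (frobK K b L n x) = frobK K a (EtLam.pullback g L) n (natLin K a b g w L n x) := by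
  apply (toHH _ n).injective
  rw [toHH_natLin, toHH_frobK, toHH_frobK, toHH_natLin]
  exact nat_gal K a b g w (FinFr.arith k K).symm L.carrier n (toHH (EtLam.pullback (FinFr.extπ K b) L) n x)

include w in
/-- Isomorphisms of `k`-schemes. -/
theorem conj_pull [IsIso g] (L : EtLam.Sheaf Λ Y) (n : ℕ) :
    Conj (frobK K b L n) (frobK K a (EtLam.pullback g L) n) :=
  ⟨LinearEquiv.ofBijective (natLin K a b g w L n) (natLin_bijective K a b g w L n),
    natLin_frobK K a b g w L n⟩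

omit [Fintype k] [Algebra.IsAlgebraic k K] [Fact FinFr.PullExact.{u}] in
theorem HHmap_equi {Z : Scheme.{u}} (f : Z ⟶ Y) {G G' : EtCoh.Ab Y} (φ : G ⟶ G') (α : G ⟶ G) (β : G' ⟶ G')
    (h : α ≫ φ = φ ≫ β) (n : ℕ) (x : HH Z ((EtCoh.pull f).obj G) n) :
    HHmap ((EtCoh.pull f).map φ) n (HHmap ((EtCoh.pull f).map α) n x) =
      HHmap ((EtCoh.pull f).map β) n (HHmap ((EtCoh.pull f).map φ) n x) := by
  rw [← HHmap_comp, ← HHmap_comp, ← Functor.map_comp, ← Functor.map_comp, h]

/-- The geometric Frobenius is natural for equivariant morphisms of sheaves. -/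
noncomputable def mapHK {L M : EtLam.Sheaf Λ Y} (φ : L.carrier ⟶ M.carrier)
    (hφ : Groth.Agent.Etcore.LamFG.Equi L.act M.act φ) (n : ℕ) : HK K b L n →ₗ[Λ] HK K b M n :=
  lin (HHmap ((EtCoh.pull (FinFr.extπ K b)).map φ) n) fun r x =>
    HHmap_equi (FinFr.extπ K b) φ (L.act r) (M.act r) (hφ r) n x

omit [Fintype k] [Algebra.IsAlgebraic k K] [Fact FinFr.PullExact.{u}] in
theorem toHH_mapHK {L M : EtLam.Sheaf Λ Y} (φ : L.carrier ⟶ M.carrier)
    (hφ : Groth.Agent.Etcore.LamFG.Equi L.act M.act φ) (n : ℕ) (x : HK K b L n) :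
    toHH (EtLam.pullback (FinFr.extπ K b) M) n (mapHK K b φ hφ n x) =
      HHmap ((EtCoh.pull (FinFr.extπ K b)).map φ) n (toHH (EtLam.pullback (FinFr.extπ K b) L) n x) :=
  toHH_lin _ _ x

theorem mapHK_frobK {L M : EtLam.Sheaf Λ Y} (φ : L.carrier ⟶ M.carrier)
    (hφ : Groth.Agent.Etcore.LamFG.Equi L.act M.act φ) (n : ℕ) (x : HK K b L n) :
    mapHK K b φ hφ n (frobK K b L n x) = frobK K b M n (mapHK K b φ hφ n x) := by
  apply (toHH _ n).injective
  rw [toHH_mapHK, toHH_frobK, toHH_frobK, toHH_mapHK]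
  exact (hpVia_map (FinFr.galAct b (FinFr.arith k K).symm) (FinFr.extπ K b) (FinFr.extπ K b)
    (FinFr.galAct_fst b _) φ n (toHH (EtLam.pullback (FinFr.extπ K b) L) n x)).symm

omit [Fintype k] [Algebra.IsAlgebraic k K] [Fact FinFr.PullExact.{u}] in
theorem mapHK_bijective {L M : EtLam.Sheaf Λ Y} (φ : L.carrier ⟶ M.carrier) [IsIso φ]
    (hφ : Groth.Agent.Etcore.LamFG.Equi L.act M.act φ) (n : ℕ) :
    Function.Bijective (mapHK K b φ hφ n) :=
  lin_bijective _ _ (HHmap_bijective _ n)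

/-- Isomorphic `Λ`-sheaves. -/
theorem conj_LEq {L M : EtLam.Sheaf Λ Y} (h : LEq L M) (n : ℕ) : Conj (frobK K b L n) (frobK K b M n) := by
  obtain ⟨e, he⟩ := h
  exact ⟨LinearEquiv.ofBijective (mapHK K b e.hom he n) (mapHK_bijective K b e.hom he n),
    mapHK_frobK K b e.hom he n⟩

include w in
/-- Pull-back along a `k`-isomorphism followed by an isomorphism of `Λ`-sheaves. -/
theorem conj_pull_LEq [IsIso g] {L : EtLam.Sheaf Λ Y} {M : EtLam.Sheaf Λ X}
    (h : LEq (EtLam.pullback g L) M) (n : ℕ) : Conj (frobK K b L n) (frobK K a M n) :=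
  (conj_pull K a b g w L n).trans (conj_LEq K a h n)

omit [Fintype k] [Algebra.IsAlgebraic k K] [Fact FinFr.PullExact.{u}] in
theorem subsingleton_HK {L : EtLam.Sheaf Λ Y} (h : IsZero L.carrier) (n : ℕ) : Subsingleton (HK K b L n) :=
  subsingleton_HL (L := EtLam.pullback (FinFr.extπ K b) L) ((EtCoh.pull (FinFr.extπ K b)).map_isZero h) n

end Nat

end Groth.Agent.Sga4h.H923.LamNat
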