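import Groth.Agent.Sga4h.H14.Glob
import Groth.Agent.Sga4h.H513.LocMain
import Groth.Agent.Sga4h.H513.LocSum

/-!
# The Leray clause of the devissage for the defect of the trace formula

For `f : P ⟶ S` proper over the finite field `k` and every additive invariant `χ`:
`defect b L = Σ_q (-1)^q defect c (R^q f_* L)` as soon as the defect of `L` vanishes on the fibres over finite
`k`-schemes (`defect_leray`); `leray_clause`.
-/

set_option autoImplicit false
universe u w

open CategoryTheory CategoryTheory.Limits AlgebraicGeometry Opposite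

namespace Groth.Agent.Sga4h.H923.LerayCl

open Groth.Agent.Sga4h.H923.DevDef Groth.Agent.Sga4h.H925.Defs Groth.Agent.Sga4h.H925.Inv
  Groth.Agent.Sga4h.H513.LocBase Groth.Agent.Sga4h.H513.LocFin Groth.Agent.Sga4h.H14.Glob

/-- A closed point of a scheme locally of finite type over a field is finite. -/
theorem isFinite_pt {k : Type u} [Field k] {S : Scheme.{u}} (c : S ⟶ Spec (CommRingCat.of k))
    [LocallyOfFiniteType c] (s : S) (hs : IsClosed ({s} : Set S)) :
    IsFinite (S.fromSpecResidueField s ≫ c) := by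
  have := isClosed_singleton_iff_isClosedImmersion.1 hs
  exact isFinite_iff_locallyOfFiniteType_of_jacobsonSpace.2 inferInstance

section Edge

variable {k : Type u} [Field k] [Fintype k] (K : Type u) [Field K] [Algebra k K] [Algebra.IsAlgebraic k K]
  [Fact FinFr.PullExact.{u}] {Λ : Type} [Field Λ]

/-- helper513's edge isomorphism in helper14's format. -/
theorem edge (hPBC : PBC.{u}) [IsSepClosed K] {P : Scheme.{u}} (b : P ⟶ Spec (CommRingCat.of k))
    [IsProper b] (L : EtLam.Sheaf Λ P) (hL : EtCoh.IsTorsion L.carrier) : Edge K b L := by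
  intro m
  obtain ⟨e, he⟩ := exists_edge_spec K hPBC b L hL m
  exact ⟨e, he (FinFr.arith k K).symm⟩

end Edge

section Main

variable {k : Type u} [Field k] [Fintype k] (K : Type u) [Field K] [Algebra k K] [Algebra.IsAlgebraic k K]
  [IsSepClosed K] [Fact FinFr.PullExact.{u}] {Λ : Type} [Field Λ] {A : Type w} [AddCommGroup A]
  (χ : Inv.{u + 1} Λ A)

/-- The cohomology of a zero sheaf vanishes. -/
theorem subsingleton_HK_of_isZero {P : Scheme.{u}} (b : P ⟶ Spec (CommRingCat.of k)) {L : EtLam.Sheaf Λ P}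
    (h : IsZero L.carrier) (n : ℕ) : Subsingleton (HK K b L n) := by
  have h1 : IsZero ((EtCoh.pull (FinFr.extπ K b)).obj L.carrier) := (EtCoh.pull (FinFr.extπ K b)).map_isZero h
  exact Sheaf.subsingleton_H_of_isZero h1 n

/-- The global side of a fibre over a closed point in terms of the local terms of the direct images. -/
theorem glob_fibre (hPBC : PBC.{u}) {P S : Scheme.{u}} (c : S ⟶ Spec (CommRingCat.of k)) (f : P ⟶ S)
    [IsProper f] (L : EtLam.Sheaf Λ P) (hL : EtCoh.IsTorsion L.carrier) (s : S)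
    [IsFinite (S.fromSpecResidueField s ≫ c)] (M : ℕ)
    (hM : ∀ q : ℕ, M ≤ q → IsZero ((EtCoh.Rpush f q).obj L.carrier))
    (hfin : ∀ q : ℕ, FiniteDimensional Λ (HK K (pullback.snd f (S.fromSpecResidueField s) ≫
      S.fromSpecResidueField s ≫ c) (EtLam.pullback (pullback.fst f (S.fromSpecResidueField s)) L) q)) :
    glob K χ (pullback.snd f (S.fromSpecResidueField s) ≫ S.fromSpecResidueField s ≫ c)
        (EtLam.pullback (pullback.fst f (S.fromSpecResidueField s)) L) =
      ∑ q ∈ Finset.range M, (-1 : ℤ) ^ q • locV K χ c s (rpush f q L) := by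
  have hvan : ∀ q : ℕ, M ≤ q → Subsingleton (HK K (pullback.snd f (S.fromSpecResidueField s) ≫
      S.fromSpecResidueField s ≫ c) (EtLam.pullback (pullback.fst f (S.fromSpecResidueField s)) L) q) := by
    intro q hq
    obtain ⟨e, -⟩ := Groth.Agent.Sga4h.H513.LocMain.main K hPBC c f (S.fromSpecResidueField s) L hL q
    have h0 : IsZero (EtLam.pullback (S.fromSpecResidueField s) (rpush f q L)).carrier :=
      (EtCoh.pull (S.fromSpecResidueField s)).map_isZero (hM q hq)
    have := subsingleton_HK_of_isZero K (S.fromSpecResidueField s ≫ c) h0 0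
    exact e.symm.toEquiv.subsingleton
  rw [glob, Inv.alt_eq_sum χ _ _ M hvan]
  refine Finset.sum_congr rfl fun q _ => ?_
  have := hfin q
  rw [locV, Groth.Agent.Sga4h.H513.LocMain.val_eq K χ hPBC c f (S.fromSpecResidueField s) L hL q]

/-- **The Leray formula for the defect.** -/
theorem defect_leray (hPBC : PBC.{u}) {P S : Scheme.{u}} (b : P ⟶ Spec (CommRingCat.of k))
    (c : S ⟶ Spec (CommRingCat.of k)) [IsProper b] [IsProper c] (f : P ⟶ S) (w : f ≫ c = b)
    (L : EtLam.Sheaf Λ P) (hL : EtCoh.IsTorsion L.carrier)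
    (hRt : ∀ q : ℕ, EtCoh.IsTorsion (rpush f q L).carrier)
    (N : ℕ) (hPN : Finite {x : FinFr.ClosedPt P // FinFr.ptDeg b x.1 ≤ N})
    (hSN : Finite {x : FinFr.ClosedPt S // FinFr.ptDeg c x.1 ≤ N})
    (M : ℕ) (hM : ∀ q : ℕ, M ≤ q → IsZero ((EtCoh.Rpush f q).obj L.carrier))
    (hfv : ∀ q < M, FinVan K c (rpush f q L))
    (hfib : ∀ s : S, IsClosed ({s} : Set S) → ∀ q : ℕ,
      FiniteDimensional Λ (HK K (pullback.snd f (S.fromSpecResidueField s) ≫
        S.fromSpecResidueField s ≫ c) (EtLam.pullback (pullback.fst f (S.fromSpecResidueField s)) L) q))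
    (hpt : ∀ x : P, IsClosed ({x} : Set P) → FiniteDimensional Λ (HK K (P.fromSpecResidueField x ≫ b)
      (EtLam.pullback (P.fromSpecResidueField x) L) 0))
    (hdef : ∀ s : S, IsClosed ({s} : Set S) →
      defect K χ (pullback.snd f (S.fromSpecResidueField s) ≫ S.fromSpecResidueField s ≫ c) N
        (EtLam.pullback (pullback.fst f (S.fromSpecResidueField s)) L) = 0) :
    defect K χ b N L = ∑ q ∈ Finset.range M, (-1 : ℤ) ^ q • defect K χ c N (rpush f q L) := by
  have hf : IsProper f := by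
    have : IsProper (f ≫ c) := by rw [w]; infer_instance
    exact IsProper.of_comp f c
  have h1 := (glob_leray K χ b c f w L M hM (edge K hPBC b L hL)
    (fun q _ => edge K hPBC c (rpush f q L) (hRt q)) hfv).2
  have h2 : loc K χ b N L = ∑ q ∈ Finset.range M, (-1 : ℤ) ^ q • loc K χ c N (rpush f q L) := by
    rw [Groth.Agent.Sga4h.H513.LocSum.loc_fib K χ f b c w N L hpt]
    have hS := Fintype.ofFinite {x : FinFr.ClosedPt S // FinFr.ptDeg c x.1 ≤ N}
    have h3 : ∀ s : {s : FinFr.ClosedPt S // FinFr.ptDeg c s.1 ≤ N},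
        loc K χ (pullback.snd f (S.fromSpecResidueField s.1.1) ≫ S.fromSpecResidueField s.1.1 ≫ c) N
          (EtLam.pullback (pullback.fst f (S.fromSpecResidueField s.1.1)) L) =
        ∑ q ∈ Finset.range M, (-1 : ℤ) ^ q • locV K χ c s.1.1 (rpush f q L) := by
      intro s
      have := isFinite_pt c s.1.1 s.1.2
      have h4 := sub_eq_zero.1 (hdef s.1.1 s.1.2)
      rw [← h4]
      exact glob_fibre K χ hPBC c f L hL s.1.1 M hM (hfib s.1.1 s.1.2)
    rw [finsum_congr h3, finsum_eq_sum_of_fintype, Finset.sum_comm]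
    refine Finset.sum_congr rfl fun q _ => ?_
    rw [loc, finsum_eq_sum_of_fintype, Finset.smul_sum]
  rw [defect, h1, h2, ← Finset.sum_sub_distrib]
  exact Finset.sum_congr rfl fun q _ => (smul_sub _ _ _).symm

/-- **The clause `leray`.** -/
theorem leray_clause (hPBC : PBC.{u}) {P S : Scheme.{u}} (b : P ⟶ Spec (CommRingCat.of k))
    (c : S ⟶ Spec (CommRingCat.of k)) [IsProper b] [IsProper c] (f : P ⟶ S) (w : f ≫ c = b)
    (L : EtLam.Sheaf Λ P) (hL : EtCoh.IsTorsion L.carrier)
    (hRt : ∀ q : ℕ, EtCoh.IsTorsion (rpush f q L).carrier)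
    (N : ℕ) (hPN : Finite {x : FinFr.ClosedPt P // FinFr.ptDeg b x.1 ≤ N})
    (hSN : Finite {x : FinFr.ClosedPt S // FinFr.ptDeg c x.1 ≤ N})
    (hM : ∃ M : ℕ, ∀ q : ℕ, M ≤ q → IsZero ((EtCoh.Rpush f q).obj L.carrier))
    (hfv : ∀ q : ℕ, FinVan K c (rpush f q L))
    (hfib : ∀ s : S, IsClosed ({s} : Set S) → ∀ q : ℕ,
      FiniteDimensional Λ (HK K (pullback.snd f (S.fromSpecResidueField s) ≫
        S.fromSpecResidueField s ≫ c) (EtLam.pullback (pullback.fst f (S.fromSpecResidueField s)) L) q))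
    (hpt : ∀ x : P, IsClosed ({x} : Set P) → FiniteDimensional Λ (HK K (P.fromSpecResidueField x ≫ b)
      (EtLam.pullback (P.fromSpecResidueField x) L) 0))
    (hdef : ∀ s : S, IsClosed ({s} : Set S) →
      defect K χ (pullback.snd f (S.fromSpecResidueField s) ≫ S.fromSpecResidueField s ≫ c) N
        (EtLam.pullback (pullback.fst f (S.fromSpecResidueField s)) L) = 0)
    (hpos : ∀ q : ℕ, 0 < q → defect K χ c N (rpush f q L) = 0) :
    defect K χ b N L = defect K χ c N (rpush f 0 L) := by
  obtain ⟨M, hM⟩ := hM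
  rw [defect_leray K χ hPBC b c f w L hL hRt N hPN hSN (M + 1) (fun q hq => hM q (by omega))
    (fun q _ => hfv q) hfib hpt hdef, Finset.sum_range_succ', pow_zero, one_smul]
  rw [Finset.sum_eq_zero (fun q _ => by rw [hpos (q + 1) (Nat.succ_pos q), smul_zero]), zero_add]

end Main

end Groth.Agent.Sga4h.H923.LerayCl
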