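import Groth.Agent.Sga4h.H923.LamNat
import Groth.Agent.Sga4h.H923.FrobEqs

/-!
# Points of `X₀` and points of a compactification `j : X₀ ⟶ P₀`

`j : X₀ ⟶ P₀` an open immersion over the finite field `k` (`a = j ≫ b`), `L` an etale sheaf of `Λ`-modules on `X₀`.

* `locTrace_of_fac`, `locTrace_of_not_fac`, `sum_ratPt`: rational points;
* `conj_pt`: the Frobenius on the fibre of `j_! L` at `j x` is the one of `L` at `x`; `locV_pt`, `locV_of_not_mem`;
* `ptDeg_pt`, `closed_iff`, `loc_eq`: closed points.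
-/

set_option autoImplicit false
universe u w
open CategoryTheory CategoryTheory.Limits AlgebraicGeometry Opposite

namespace Groth.Agent.Sga4h.H923.PtCompare

open Groth.Agent.Sga4h.H925.Defs Groth.Agent.Sga4h.H925.Inv Groth.Agent.Sga4h.H923.LamEq
  Groth.Agent.Sga4h.H923.LamNat Groth.Agent.Sga4h.H923.Conj Groth.Agent.Sga4h.H923.FrobEqs

/-- Reindexing a finitary sum along an injection which meets the support. -/
@[to_additive /-- Reindexing a finitary sum along an injection which meets the support. -/]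
theorem finprod_eq_of_range {α β M : Type*} [CommMonoid M] (φ : α → β) (hφ : Function.Injective φ)
    (f : β → M) (h : ∀ y, y ∉ Set.range φ → f y = 1) : ∏ᶠ y, f y = ∏ᶠ x, f (φ x) := by
  rw [← finprod_mem_range (f := f) hφ, ← finprod_mem_univ]
  refine finprod_mem_inter_mulSupport_eq _ _ _ ?_
  ext y
  simp only [Set.univ_inter, Set.mem_inter_iff, Function.mem_mulSupport]
  refine ⟨fun hy => ⟨?_, hy⟩, fun hy => hy.2⟩
  by_contra hr
  exact hy (h y hr)

section Rat

variable {Λ : Type} [CommRing Λ] {k : Type u} [Field k] (K : Type u) [Field K] [Algebra k K]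
  [Fintype k] [Algebra.IsAlgebraic k K] [Fact FinFr.PullExact.{u}]
  {X₀ P₀ : Scheme.{u}} (a : X₀ ⟶ Spec (CommRingCat.of k)) (j : X₀ ⟶ P₀) [IsOpenImmersion j]
  (b : P₀ ⟶ Spec (CommRingCat.of k)) (hj : j ≫ b = a) (L : EtLam.Sheaf Λ X₀)

/-- The local trace only depends on the `Λ`-sheaf `x⁻¹ L` up to isomorphism. -/
theorem locTrace_congr {X Y : Scheme.{u}} (x : Spec (CommRingCat.of k) ⟶ X) (y : Spec (CommRingCat.of k) ⟶ Y)
    {L : EtLam.Sheaf Λ X} {M : EtLam.Sheaf Λ Y} (h : LEq (EtLam.pullback x L) (EtLam.pullback y M)) :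
    FinFr.locTrace (K := K) x L = FinFr.locTrace (K := K) y M := by
  rw [locTrace_eq, locTrace_eq]
  exact (conj_LEq K (𝟙 _) h 0).trace_eq

theorem locTrace_of_fac (x : Spec (CommRingCat.of k) ⟶ X₀) (y : Spec (CommRingCat.of k) ⟶ P₀)
    (hx : x ≫ j = y) :
    FinFr.locTrace (K := K) y (FinFr.extZeroLam j L) = FinFr.locTrace (K := K) x L :=
  locTrace_congr K y x (pull_extZero_of_fac j x y hx L)

theorem locTrace_of_not_fac (y : Spec (CommRingCat.of k) ⟶ P₀) (hy : ∀ t, y t ∉ Set.range j) :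
    FinFr.locTrace (K := K) y (FinFr.extZeroLam j L) = 0 := by
  rw [locTrace_eq]
  have := subsingleton_HK K (𝟙 (Spec (CommRingCat.of k)))
    (L := EtLam.pullback y (FinFr.extZeroLam j L)) (isZero_pull_extZero j y hy L) 0
  exact trace_of_subsingleton _

include hj in
/-- The sum over the rational points of `P₀` of the local traces of `j_! L` is the one over the rational points of
`X₀` of the local traces of `L`. -/
theorem sum_ratPt :
    ∑ᶠ y : FinFr.RatPt b, FinFr.locTrace (K := K) y.1 (FinFr.extZeroLam j L) =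
      ∑ᶠ x : FinFr.RatPt a, FinFr.locTrace (K := K) x.1 L := by
  let φ : FinFr.RatPt a → FinFr.RatPt b := fun x => ⟨x.1 ≫ j, by rw [Category.assoc, hj, x.2]⟩
  have hφ : Function.Injective φ := by
    intro x y hxy
    apply Subtype.ext
    have h1 : x.1 ≫ j = y.1 ≫ j := congrArg Subtype.val hxy
    exact (cancel_mono j).1 h1
  have h1 : ∀ x : FinFr.RatPt a, FinFr.locTrace (K := K) x.1 L =
      FinFr.locTrace (K := K) (φ x).1 (FinFr.extZeroLam j L) := fun x =>
    (locTrace_of_fac K j L x.1 (φ x).1 rfl).symm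
  rw [finsum_congr h1]
  refine finsum_eq_of_range φ hφ (fun y => FinFr.locTrace (K := K) y.1 (FinFr.extZeroLam j L)) fun y hr => ?_
  apply locTrace_of_not_fac
  rintro t ⟨s, hs⟩
  apply hr
  have hf : Set.range y.1 ⊆ Set.range j := by
    rintro _ ⟨t', rfl⟩
    rw [Subsingleton.elim t' t]
    exact ⟨s, hs⟩
  have hl : IsOpenImmersion.lift j y.1 hf ≫ j = y.1 := IsOpenImmersion.lift_fac _ _ _
  refine ⟨⟨IsOpenImmersion.lift j y.1 hf, ?_⟩, Subtype.ext hl⟩
  rw [← hj, ← Category.assoc, hl, y.2]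

end Rat

section Closed

variable {Λ : Type} [CommRing Λ] {k : Type u} [Field k] (K : Type u) [Field K] [Algebra k K]
  {X₀ P₀ : Scheme.{u}} (a : X₀ ⟶ Spec (CommRingCat.of k)) (j : X₀ ⟶ P₀) [IsOpenImmersion j]
  (b : P₀ ⟶ Spec (CommRingCat.of k)) (hj : j ≫ b = a) (L : EtLam.Sheaf Λ X₀)

/-- The isomorphism `Spec κ(x) ⟶ Spec κ(j x)`. -/
noncomputable abbrev ptIso (x : X₀) : Spec (X₀.residueField x) ⟶ Spec (P₀.residueField (j x)) :=
  Spec.map (j.residueFieldMap x)

omit [IsOpenImmersion j] in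
theorem ptIso_comp (x : X₀) :
    ptIso j x ≫ P₀.fromSpecResidueField (j x) = X₀.fromSpecResidueField x ≫ j :=
  j.SpecMap_residueFieldMap_fromSpecResidueField x

theorem pt_LEq (x : X₀) :
    LEq (EtLam.pullback (ptIso j x) (EtLam.pullback (P₀.fromSpecResidueField (j x)) (FinFr.extZeroLam j L)))
      (EtLam.pullback (X₀.fromSpecResidueField x) L) :=
  (pull_comp (ptIso j x) (P₀.fromSpecResidueField (j x)) _ (ptIso_comp j x) _).trans
    (pull_extZero_of_fac j (X₀.fromSpecResidueField x) _ rfl L)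

include hj in
/-- The Frobenius on the fibre of `j_! L` at `j x` is conjugate to the one on the fibre of `L` at `x`. -/
theorem conj_pt [Fintype k] [Algebra.IsAlgebraic k K] [Fact FinFr.PullExact.{u}] (x : X₀) (n : ℕ) :
    Conj (frobK K (P₀.fromSpecResidueField (j x) ≫ b)
        (EtLam.pullback (P₀.fromSpecResidueField (j x)) (FinFr.extZeroLam j L)) n)
      (frobK K (X₀.fromSpecResidueField x ≫ a) (EtLam.pullback (X₀.fromSpecResidueField x) L) n) :=
  conj_pull_LEq K (X₀.fromSpecResidueField x ≫ a) (P₀.fromSpecResidueField (j x) ≫ b) (ptIso j x)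
    (by rw [← Category.assoc, ptIso_comp, Category.assoc, hj]) (pt_LEq j L x) n

include hj in
theorem resAlgHom_pt (x : X₀) (c : k) :
    j.residueFieldMap x (FinFr.resAlgHom b (j x) c) = FinFr.resAlgHom a x c := by
  have h : Spec.preimage (P₀.fromSpecResidueField (j x) ≫ b) ≫ j.residueFieldMap x =
      Spec.preimage (X₀.fromSpecResidueField x ≫ a) := by
    apply Spec.map_injective
    rw [Spec.map_comp, Spec.map_preimage, Spec.map_preimage, ← Category.assoc]
    erw [ptIso_comp j x]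
    rw [Category.assoc, hj]
  exact congrArg (fun t => t.hom c) h

include hj in
theorem ptDeg_pt (x : X₀) : FinFr.ptDeg b (j x) = FinFr.ptDeg a x := by
  let A1 : Algebra k (P₀.residueField (j x) : Type u) := (FinFr.resAlgHom b (j x)).toAlgebra
  let A2 : Algebra k (X₀.residueField x : Type u) := (FinFr.resAlgHom a x).toAlgebra
  let e : (P₀.residueField (j x) : Type u) ≃+* (X₀.residueField x : Type u) :=
    (asIso (j.residueFieldMap x)).commRingCatIsoToRingEquiv
  have he : ∀ c : k, e (algebraMap k (P₀.residueField (j x) : Type u) c) =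
      algebraMap k (X₀.residueField x : Type u) c := fun c => resAlgHom_pt a j b hj x c
  exact (AlgEquiv.ofRingEquiv (f := e) he).toLinearEquiv.finrank_eq

include b in
theorem isClosed_pt_iff [LocallyOfFiniteType b] (x : X₀) :
    IsClosed ({j x} : Set P₀) ↔ IsClosed ({x} : Set X₀) := by
  have : JacobsonSpace P₀ := LocallyOfFiniteType.jacobsonSpace b
  have h := j.isOpenEmbedding.preimage_closedPoints
  have h2 : x ∈ j ⁻¹' closedPoints P₀ ↔ x ∈ closedPoints X₀ := by rw [h]
  exact h2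

/-- Closed points of `X₀` of degree `≤ N` as closed points of `P₀` of degree `≤ N`. -/
def ptMap [LocallyOfFiniteType b] (hj : j ≫ b = a) (N : ℕ) (x : {x : FinFr.ClosedPt X₀ // FinFr.ptDeg a x.1 ≤ N}) :
    {y : FinFr.ClosedPt P₀ // FinFr.ptDeg b y.1 ≤ N} :=
  ⟨⟨j x.1.1, (isClosed_pt_iff j b x.1.1).2 x.1.2⟩, (ptDeg_pt a j b hj x.1.1).trans_le x.2⟩

theorem ptMap_injective [LocallyOfFiniteType b] (N : ℕ) : Function.Injective (ptMap a j b hj N) := by
  intro x y h
  have h1 : j x.1.1 = j y.1.1 := congrArg (fun t => t.1.1) h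
  exact Subtype.ext (Subtype.ext (j.isOpenEmbedding.injective h1))

theorem not_mem_range_j [LocallyOfFiniteType b] (N : ℕ) (y : {y : FinFr.ClosedPt P₀ // FinFr.ptDeg b y.1 ≤ N})
    (hy : y ∉ Set.range (ptMap a j b hj N)) : y.1.1 ∉ Set.range j := by
  rintro ⟨x, hx⟩
  have hc : IsClosed ({x} : Set X₀) := (isClosed_pt_iff j b x).1 (by rw [hx]; exact y.1.2)
  refine hy ⟨⟨⟨x, hc⟩, ?_⟩, Subtype.ext (Subtype.ext hx)⟩
  rw [← ptDeg_pt a j b hj, hx]
  exact y.2

theorem isZero_pt (y : P₀) (hy : y ∉ Set.range j) :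
    IsZero (EtLam.pullback (P₀.fromSpecResidueField y) (FinFr.extZeroLam j L)).carrier :=
  isZero_pull_extZero j _ (fun t => by rw [Scheme.fromSpecResidueField_apply]; exact hy) L

include hj in
/-- Reindexing products over closed points. -/
theorem prod_closedPt [LocallyOfFiniteType b] {M : Type*} [CommMonoid M] (N : ℕ)
    (f : P₀ → M) (g : X₀ → M) (h1 : ∀ x : X₀, IsClosed ({x} : Set X₀) → f (j x) = g x)
    (h2 : ∀ y : P₀, IsClosed ({y} : Set P₀) → y ∉ Set.range j → f y = 1) :
    ∏ᶠ y : {y : FinFr.ClosedPt P₀ // FinFr.ptDeg b y.1 ≤ N}, f y.1.1 =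
      ∏ᶠ x : {x : FinFr.ClosedPt X₀ // FinFr.ptDeg a x.1 ≤ N}, g x.1.1 := by
  have e : ∀ x : {x : FinFr.ClosedPt X₀ // FinFr.ptDeg a x.1 ≤ N}, g x.1.1 = f (ptMap a j b hj N x).1.1 :=
    fun x => (h1 x.1.1 x.1.2).symm
  rw [finprod_congr e]
  exact finprod_eq_of_range (ptMap a j b hj N) (ptMap_injective a j b hj N) (fun y => f y.1.1)
    fun y hy => h2 _ y.1.2 (not_mem_range_j a j b hj N y hy)

include hj in
/-- The product over the closed points of the local factors. -/
theorem prod_locFactor [Fintype k] [Algebra.IsAlgebraic k K] [Fact FinFr.PullExact.{u}]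
    [LocallyOfFiniteType b] (N : ℕ)
    (hb : ∀ y : P₀, IsClosed ({y} : Set P₀) →
      FinFr.charRev (frobK K (P₀.fromSpecResidueField y ≫ b)
        (EtLam.pullback (P₀.fromSpecResidueField y) (FinFr.extZeroLam j L)) 0) =
      FinFr.locFactor b y (FinFr.extZeroLam j L))
    (ha : ∀ x : X₀, IsClosed ({x} : Set X₀) →
      FinFr.charRev (frobK K (X₀.fromSpecResidueField x ≫ a)
        (EtLam.pullback (X₀.fromSpecResidueField x) L) 0) = FinFr.locFactor a x L) :
    ∏ᶠ y : {y : FinFr.ClosedPt P₀ // FinFr.ptDeg b y.1 ≤ N}, FinFr.locFactor b y.1.1 (FinFr.extZeroLam j L) =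
      ∏ᶠ x : {x : FinFr.ClosedPt X₀ // FinFr.ptDeg a x.1 ≤ N}, FinFr.locFactor a x.1.1 L := by
  refine prod_closedPt a j b hj N (fun y => FinFr.locFactor b y (FinFr.extZeroLam j L))
    (fun x => FinFr.locFactor a x L) (fun x hx => ?_) fun y hy hr => ?_
  · change FinFr.locFactor b (j x) (FinFr.extZeroLam j L) = FinFr.locFactor a x L
    rw [← hb _ ((isClosed_pt_iff j b x).2 hx), ← ha x hx]
    exact (conj_pt K a j b hj L x 0).charRev_eq
  · change FinFr.locFactor b y (FinFr.extZeroLam j L) = 1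
    rw [← hb y hy]
    have := subsingleton_HK K (P₀.fromSpecResidueField y ≫ b) (isZero_pt j L y hr) 0
    exact charRev_of_subsingleton _

end Closed

section Loc

variable {Λ : Type} [Field Λ] {A : Type w} [AddCommGroup A] (χ : Inv.{u + 1} Λ A)
  {k : Type u} [Field k] (K : Type u) [Field K] [Algebra k K]
  [Fintype k] [Algebra.IsAlgebraic k K] [Fact FinFr.PullExact.{u}]
  {X₀ P₀ : Scheme.{u}} (a : X₀ ⟶ Spec (CommRingCat.of k)) (j : X₀ ⟶ P₀) [IsOpenImmersion j]
  (b : P₀ ⟶ Spec (CommRingCat.of k)) (hj : j ≫ b = a) (L : EtLam.Sheaf Λ X₀)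

include hj in
theorem locV_pt (x : X₀)
    (hx : Module.Finite Λ (HK K (X₀.fromSpecResidueField x ≫ a)
      (EtLam.pullback (X₀.fromSpecResidueField x) L) 0)) :
    locV K χ b (j x) (FinFr.extZeroLam j L) = locV K χ a x L :=
  (conj_pt K a j b hj L x 0).val_eq χ

theorem locV_of_not_mem (y : P₀) (hy : y ∉ Set.range j) : locV K χ b y (FinFr.extZeroLam j L) = 0 := by
  have := subsingleton_HK K (P₀.fromSpecResidueField y ≫ b) (isZero_pt j L y hy) 0
  exact χ.val_subsingleton _ _

include hj in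
/-- The local side of `j_! L` on `P₀` is the local side of `L` on `X₀`. -/
theorem loc_eq [LocallyOfFiniteType b] (N : ℕ)
    (hx : ∀ x : X₀, IsClosed ({x} : Set X₀) → Module.Finite Λ (HK K (X₀.fromSpecResidueField x ≫ a)
      (EtLam.pullback (X₀.fromSpecResidueField x) L) 0)) :
    loc K χ b N (FinFr.extZeroLam j L) = loc K χ a N L := by
  have e : ∀ x : {x : FinFr.ClosedPt X₀ // FinFr.ptDeg a x.1 ≤ N}, locV K χ a x.1.1 L =
      locV K χ b (ptMap a j b hj N x).1.1 (FinFr.extZeroLam j L) :=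
    fun x => (locV_pt χ K a j b hj L x.1.1 (hx _ x.1.2)).symm
  rw [loc, loc, finsum_congr e]
  exact finsum_eq_of_range (ptMap a j b hj N) (ptMap_injective a j b hj N)
    (fun y => locV K χ b y.1.1 (FinFr.extZeroLam j L))
    fun y hy => locV_of_not_mem χ K j b L _ (not_mem_range_j a j b hj N y hy)

end Loc

end Groth.Agent.Sga4h.H923.PtCompare
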